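/-
Special rank one pairs: images, symmetry; SL₂(k) and its unitriangular subgroups (helper731, section 63).
-/
import Cfsg.Agent.H731.RankOne

set_option autoImplicit false
open Cfsg

namespace Cfsg.Agent.H731

/-! ### Special rank one pairs: symmetry and images -/

section special

variable {G : Type*} [Group G] {A B : Subgroup G}

theorem IsSpecialRankOnePair_symm (h : IsSpecialRankOnePair A B) : IsSpecialRankOnePair B A := by
  refine ⟨RankOnePair_symm h.1, fun b hb hb1 a ha ha1 hab => ?_⟩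
  have h1 := h.2 a ha ha1 b hb hb1 hab.symm
  have h2 := congrArg (fun x => x⁻¹) h1
  simp only [mul_inv_rev, inv_inv] at h2
  -- h2 : b⁻¹ * (a⁻¹ * b) = a⁻¹ * (b * a)
  rw [mul_assoc, mul_assoc]
  exact h2.symm

theorem IsSpecialRankOnePair_map {H : Type*} [Group H] (h : IsSpecialRankOnePair A B) (f : G →* H)
    (hne : A.map f ≠ B.map f) : IsSpecialRankOnePair (A.map f) (B.map f) := by
  have hp := IsRankOnePair_map h.1 f hne
  refine ⟨hp, ?_⟩
  rintro _ ⟨a, ha, rfl⟩ ha1 b hb hb1 hab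
  have ha1' : a ≠ 1 := fun h1 => ha1 (by rw [h1, map_one])
  obtain ⟨b', hb', hb1', hab'⟩ := h.1.cond_left a ha ha1'
  have h2 : conjBy (A.map f) (f b')⁻¹ = conjBy (B.map f) (f a)⁻¹ := by
    rw [← map_inv, ← map_inv, ← map_conjBy, ← map_conjBy, hab']
  have h3 : b = f b' := rankOne_existsUnique_right hp hb (Subgroup.mem_map_of_mem f hb') hab h2
  rw [h3, ← map_inv, ← map_inv, ← map_mul, ← map_mul, ← map_mul, ← map_mul, h.2 a ha ha1' b' hb' hb1' hab']

theorem IsSpecialRankOnePair_conj (h : IsSpecialRankOnePair A B) (g : G) :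
    IsSpecialRankOnePair (conjBy A g) (conjBy B g) :=
  IsSpecialRankOnePair_map h _ (fun h1 => h.1.ne (conjBy_inj.1 h1))

theorem IsSpecialRankOnePair_of_map {H : Type*} [Group H] {f : G →* H} (hf : Function.Injective f)
    (h : IsSpecialRankOnePair (A.map f) (B.map f)) : IsSpecialRankOnePair A B := by
  refine ⟨IsRankOnePair_of_map hf h.1, ?_⟩
  intro a ha ha1 b hb hb1 hab
  apply hf
  simp only [map_mul, map_inv]
  refine h.2 (f a) (Subgroup.mem_map_of_mem f ha) (fun h1 => ha1 (hf (by rw [h1, map_one])))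
    (f b) (Subgroup.mem_map_of_mem f hb) (fun h1 => hb1 (hf (by rw [h1, map_one]))) ?_
  rw [← map_inv, ← map_inv, ← map_conjBy, ← map_conjBy, hab]

theorem IsSpecialRankOnePair_subgroupOf_iff {K : Subgroup G} (hA : A ≤ K) (hB : B ≤ K) :
    IsSpecialRankOnePair (A.subgroupOf K) (B.subgroupOf K) ↔ IsSpecialRankOnePair A B := by
  constructor
  · intro h
    have := IsSpecialRankOnePair_map h K.subtype (fun h1 => h.1.ne (Subgroup.map_injective K.subtype_injective h1))
    rwa [Subgroup.map_subgroupOf_eq_of_le hA, Subgroup.map_subgroupOf_eq_of_le hB] at this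
  · intro h
    apply IsSpecialRankOnePair_of_map K.subtype_injective
    rwa [Subgroup.map_subgroupOf_eq_of_le hA, Subgroup.map_subgroupOf_eq_of_le hB]

/-- Any two different unipotent subgroups of a special rank one group form a special pair. -/
theorem specialRankOne_pair_of_mem (h : IsSpecialRankOnePair A B) {C D : Subgroup G}
    (hC : C ∈ unipotentSubgroups A B) (hD : D ∈ unipotentSubgroups A B) (hne : C ≠ D) :
    IsSpecialRankOnePair C D := by
  obtain ⟨x, hx, rfl, rfl⟩ := rankOne_exists_conj_pair h.1 hC hD hne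
  exact IsSpecialRankOnePair_conj h x

end special

/-! ### SL₂(k) -/

section SL2

variable (k : Type*) [Field k]

/-- lower unitriangular matrix -/
def lo (c : k) : Matrix.SpecialLinearGroup (Fin 2) k := ⟨!![1, 0; c, 1], by simp [Matrix.det_fin_two_of]⟩

/-- upper unitriangular matrix -/
def up (c : k) : Matrix.SpecialLinearGroup (Fin 2) k := ⟨!![1, c; 0, 1], by simp [Matrix.det_fin_two_of]⟩

variable {k}

theorem sl2_ext {g h : Matrix.SpecialLinearGroup (Fin 2) k}
    (h00 : (g : Matrix (Fin 2) (Fin 2) k) 0 0 = (h : Matrix (Fin 2) (Fin 2) k) 0 0)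
    (h01 : (g : Matrix (Fin 2) (Fin 2) k) 0 1 = (h : Matrix (Fin 2) (Fin 2) k) 0 1)
    (h10 : (g : Matrix (Fin 2) (Fin 2) k) 1 0 = (h : Matrix (Fin 2) (Fin 2) k) 1 0)
    (h11 : (g : Matrix (Fin 2) (Fin 2) k) 1 1 = (h : Matrix (Fin 2) (Fin 2) k) 1 1) : g = h := by
  apply Matrix.SpecialLinearGroup.ext
  intro i j
  fin_cases i <;> fin_cases j <;> assumption

theorem sl2_mul (g h : Matrix.SpecialLinearGroup (Fin 2) k) (i j : Fin 2) :
    ((g * h : Matrix.SpecialLinearGroup (Fin 2) k) : Matrix (Fin 2) (Fin 2) k) i j =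
      (g : Matrix (Fin 2) (Fin 2) k) i 0 * (h : Matrix (Fin 2) (Fin 2) k) 0 j +
      (g : Matrix (Fin 2) (Fin 2) k) i 1 * (h : Matrix (Fin 2) (Fin 2) k) 1 j := by
  change ((g : Matrix (Fin 2) (Fin 2) k) * (h : Matrix (Fin 2) (Fin 2) k)) i j = _
  rw [Matrix.mul_apply, Fin.sum_univ_two]

theorem sl2_det (g : Matrix.SpecialLinearGroup (Fin 2) k) :
    (g : Matrix (Fin 2) (Fin 2) k) 0 0 * (g : Matrix (Fin 2) (Fin 2) k) 1 1
        - (g : Matrix (Fin 2) (Fin 2) k) 0 1 * (g : Matrix (Fin 2) (Fin 2) k) 1 0 = 1 := by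
  have := Matrix.SpecialLinearGroup.det_coe g
  rwa [Matrix.det_fin_two] at this

theorem lo_00 (c : k) : (lo k c : Matrix (Fin 2) (Fin 2) k) 0 0 = 1 := rfl
theorem lo_01 (c : k) : (lo k c : Matrix (Fin 2) (Fin 2) k) 0 1 = 0 := rfl
theorem lo_10 (c : k) : (lo k c : Matrix (Fin 2) (Fin 2) k) 1 0 = c := rfl
theorem lo_11 (c : k) : (lo k c : Matrix (Fin 2) (Fin 2) k) 1 1 = 1 := rfl
theorem up_00 (c : k) : (up k c : Matrix (Fin 2) (Fin 2) k) 0 0 = 1 := rfl
theorem up_01 (c : k) : (up k c : Matrix (Fin 2) (Fin 2) k) 0 1 = c := rfl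
theorem up_10 (c : k) : (up k c : Matrix (Fin 2) (Fin 2) k) 1 0 = 0 := rfl
theorem up_11 (c : k) : (up k c : Matrix (Fin 2) (Fin 2) k) 1 1 = 1 := rfl
theorem one_00 : ((1 : Matrix.SpecialLinearGroup (Fin 2) k) : Matrix (Fin 2) (Fin 2) k) 0 0 = 1 := by
  rw [Matrix.SpecialLinearGroup.coe_one]; simp
theorem one_01 : ((1 : Matrix.SpecialLinearGroup (Fin 2) k) : Matrix (Fin 2) (Fin 2) k) 0 1 = 0 := by
  rw [Matrix.SpecialLinearGroup.coe_one]; simp
theorem one_10 : ((1 : Matrix.SpecialLinearGroup (Fin 2) k) : Matrix (Fin 2) (Fin 2) k) 1 0 = 0 := by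
  rw [Matrix.SpecialLinearGroup.coe_one]; simp
theorem one_11 : ((1 : Matrix.SpecialLinearGroup (Fin 2) k) : Matrix (Fin 2) (Fin 2) k) 1 1 = 1 := by
  rw [Matrix.SpecialLinearGroup.coe_one]; simp

theorem lo_add (c d : k) : lo k (c + d) = lo k c * lo k d := by
  apply sl2_ext <;> simp only [sl2_mul, lo_00, lo_01, lo_10, lo_11] <;> ring

theorem up_add (c d : k) : up k (c + d) = up k c * up k d := by
  apply sl2_ext <;> simp only [sl2_mul, up_00, up_01, up_10, up_11] <;> ring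

theorem lo_zero : lo k 0 = 1 := by
  apply sl2_ext <;> simp only [lo_00, lo_01, lo_10, lo_11, one_00, one_01, one_10, one_11]

theorem up_zero : up k 0 = 1 := by
  apply sl2_ext <;> simp only [up_00, up_01, up_10, up_11, one_00, one_01, one_10, one_11]

theorem lo_neg (c : k) : lo k (-c) = (lo k c)⁻¹ := by
  rw [eq_inv_iff_mul_eq_one, ← lo_add, neg_add_cancel, lo_zero]

theorem up_neg (c : k) : up k (-c) = (up k c)⁻¹ := by
  rw [eq_inv_iff_mul_eq_one, ← up_add, neg_add_cancel, up_zero]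

theorem lo_injective : Function.Injective (lo k) := by
  intro c d h
  have := congrArg (fun g : Matrix.SpecialLinearGroup (Fin 2) k => (g : Matrix (Fin 2) (Fin 2) k) 1 0) h
  exact this

theorem up_injective : Function.Injective (up k) := by
  intro c d h
  have := congrArg (fun g : Matrix.SpecialLinearGroup (Fin 2) k => (g : Matrix (Fin 2) (Fin 2) k) 0 1) h
  exact this

theorem mem_lower_iff {g : Matrix.SpecialLinearGroup (Fin 2) k} : g ∈ lowerUnipotentSL2 k ↔ ∃ c, g = lo k c := by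
  constructor
  · intro hg
    induction hg using Subgroup.closure_induction with
    | mem x hx =>
      obtain ⟨h1, h2, h3⟩ := hx
      exact ⟨(x : Matrix (Fin 2) (Fin 2) k) 1 0, sl2_ext h2 h1 rfl h3⟩
    | one => exact ⟨0, lo_zero.symm⟩
    | mul x y _ _ hx hy =>
      obtain ⟨c, rfl⟩ := hx
      obtain ⟨d, rfl⟩ := hy
      exact ⟨c + d, (lo_add c d).symm⟩
    | inv x _ hx =>
      obtain ⟨c, rfl⟩ := hx
      exact ⟨-c, (lo_neg c).symm⟩
  · rintro ⟨c, rfl⟩
    exact Subgroup.subset_closure ⟨rfl, rfl, rfl⟩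

theorem mem_upper_iff {g : Matrix.SpecialLinearGroup (Fin 2) k} : g ∈ upperUnipotentSL2 k ↔ ∃ c, g = up k c := by
  constructor
  · intro hg
    induction hg using Subgroup.closure_induction with
    | mem x hx =>
      obtain ⟨h1, h2, h3⟩ := hx
      exact ⟨(x : Matrix (Fin 2) (Fin 2) k) 0 1, sl2_ext h2 rfl h1 h3⟩
    | one => exact ⟨0, up_zero.symm⟩
    | mul x y _ _ hx hy =>
      obtain ⟨c, rfl⟩ := hx
      obtain ⟨d, rfl⟩ := hy
      exact ⟨c + d, (up_add c d).symm⟩
    | inv x _ hx =>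
      obtain ⟨c, rfl⟩ := hx
      exact ⟨-c, (up_neg c).symm⟩
  · rintro ⟨c, rfl⟩
    exact Subgroup.subset_closure ⟨rfl, rfl, rfl⟩

theorem lo_mem (c : k) : lo k c ∈ lowerUnipotentSL2 k := mem_lower_iff.2 ⟨c, rfl⟩
theorem up_mem (c : k) : up k c ∈ upperUnipotentSL2 k := mem_upper_iff.2 ⟨c, rfl⟩

/-- Bruhat-type decomposition -/
theorem sl2_decomp (g : Matrix.SpecialLinearGroup (Fin 2) k) (hc : (g : Matrix (Fin 2) (Fin 2) k) 1 0 ≠ 0) :
    g = up k (((g : Matrix (Fin 2) (Fin 2) k) 0 0 - 1) / (g : Matrix (Fin 2) (Fin 2) k) 1 0) *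
      lo k ((g : Matrix (Fin 2) (Fin 2) k) 1 0) *
      up k (((g : Matrix (Fin 2) (Fin 2) k) 1 1 - 1) / (g : Matrix (Fin 2) (Fin 2) k) 1 0) := by
  have hdet := sl2_det g
  generalize ha : (g : Matrix (Fin 2) (Fin 2) k) 0 0 = a at *
  generalize hb : (g : Matrix (Fin 2) (Fin 2) k) 0 1 = b at *
  generalize hc' : (g : Matrix (Fin 2) (Fin 2) k) 1 0 = c at *
  generalize hd : (g : Matrix (Fin 2) (Fin 2) k) 1 1 = d at *
  apply sl2_ext <;> simp only [sl2_mul, lo_00, lo_01, lo_10, lo_11, up_00, up_01, up_10, up_11, ha, hb, hc', hd]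
  · field_simp
    ring
  · field_simp
    linear_combination -hdet
  · ring
  · field_simp
    ring

/-- SL₂(k) is generated by the two unitriangular subgroups. -/
theorem lower_sup_upper : lowerUnipotentSL2 k ⊔ upperUnipotentSL2 k = ⊤ := by
  have key : ∀ g : Matrix.SpecialLinearGroup (Fin 2) k, (g : Matrix (Fin 2) (Fin 2) k) 1 0 ≠ 0 →
      g ∈ lowerUnipotentSL2 k ⊔ upperUnipotentSL2 k := by
    intro g hc
    rw [sl2_decomp g hc]
    exact Subgroup.mul_mem _ (Subgroup.mul_mem _ (Subgroup.mem_sup_right (up_mem _))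
      (Subgroup.mem_sup_left (lo_mem _))) (Subgroup.mem_sup_right (up_mem _))
  rw [eq_top_iff]
  intro g _
  by_cases hc : (g : Matrix (Fin 2) (Fin 2) k) 1 0 = 0
  · have hdet := sl2_det g
    rw [hc, mul_zero, sub_zero] at hdet
    have hd : (g : Matrix (Fin 2) (Fin 2) k) 1 1 ≠ 0 := right_ne_zero_of_mul_eq_one hdet
    have h1 : g * lo k 1 ∈ lowerUnipotentSL2 k ⊔ upperUnipotentSL2 k := by
      apply key
      rw [sl2_mul, lo_00, lo_10, hc]
      simpa using hd
    have h2 : g = (g * lo k 1) * (lo k 1)⁻¹ := by simp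
    rw [h2]
    exact Subgroup.mul_mem _ h1 (Subgroup.mem_sup_left (Subgroup.inv_mem _ (lo_mem _)))
  · exact key g hc

theorem lower_comm : IsMulCommutative (lowerUnipotentSL2 k) := by
  refine ⟨⟨?_⟩⟩
  rintro ⟨x, hx⟩ ⟨y, hy⟩
  obtain ⟨c, rfl⟩ := mem_lower_iff.1 hx
  obtain ⟨d, rfl⟩ := mem_lower_iff.1 hy
  apply Subtype.ext
  change lo k c * lo k d = lo k d * lo k c
  rw [← lo_add, ← lo_add, add_comm]

theorem upper_comm : IsMulCommutative (upperUnipotentSL2 k) := by
  refine ⟨⟨?_⟩⟩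
  rintro ⟨x, hx⟩ ⟨y, hy⟩
  obtain ⟨c, rfl⟩ := mem_upper_iff.1 hx
  obtain ⟨d, rfl⟩ := mem_upper_iff.1 hy
  apply Subtype.ext
  change up k c * up k d = up k d * up k c
  rw [← up_add, ← up_add, add_comm]

theorem lo_mem_upper_iff {c : k} : lo k c ∈ upperUnipotentSL2 k ↔ c = 0 := by
  rw [mem_upper_iff]
  constructor
  · rintro ⟨d, h⟩
    have := congrArg (fun g : Matrix.SpecialLinearGroup (Fin 2) k => (g : Matrix (Fin 2) (Fin 2) k) 1 0) h
    exact this
  · rintro rfl
    exact ⟨0, by rw [lo_zero, up_zero]⟩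

theorem lower_ne_upper : lowerUnipotentSL2 k ≠ upperUnipotentSL2 k := by
  intro h
  have h1 : lo k 1 ∈ upperUnipotentSL2 k := by rw [← h]; exact lo_mem 1
  rw [lo_mem_upper_iff] at h1
  exact one_ne_zero h1

theorem isNilpotent_of_isMulCommutative {H : Type*} [Group H] (h : IsMulCommutative H) : Group.IsNilpotent H := by
  let _ : CommGroup H := { (inferInstance : Group H) with mul_comm := h.is_comm.comm }
  exact CommGroup.isNilpotent

/-- The basic conjugation formulas in `SL₂(k)`. -/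
theorem sl2_conj_up (s c : k) (hs : s ≠ 0) :
    (up k s⁻¹ * (lo k s)⁻¹) * up k c * (up k s⁻¹ * (lo k s)⁻¹)⁻¹ = lo k (-(s ^ 2 * c)) := by
  rw [mul_inv_eq_iff_eq_mul]
  rw [← lo_neg]
  apply sl2_ext <;> simp only [sl2_mul, lo_00, lo_01, lo_10, lo_11, up_00, up_01, up_10, up_11] <;>
    field_simp <;> ring

theorem sl2_conjBy_upper (s : k) (hs : s ≠ 0) :
    conjBy (upperUnipotentSL2 k) (up k s⁻¹ * (lo k s)⁻¹) = lowerUnipotentSL2 k := by
  ext x
  rw [mem_conjBy, mem_upper_iff, mem_lower_iff]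
  constructor
  · rintro ⟨c, hc⟩
    refine ⟨-(s ^ 2 * c), ?_⟩
    rw [← sl2_conj_up s c hs, ← hc]
    group
  · rintro ⟨d, rfl⟩
    refine ⟨-(d / s ^ 2), ?_⟩
    have h1 := sl2_conj_up s (-(d / s ^ 2)) hs
    have h2 : -(s ^ 2 * -(d / s ^ 2)) = d := by field_simp
    rw [h2] at h1
    rw [← h1]
    group

theorem sl2_partner (s : k) (hs : s ≠ 0) :
    conjBy (lowerUnipotentSL2 k) (up k s⁻¹)⁻¹ = conjBy (upperUnipotentSL2 k) (lo k s)⁻¹ := by
  rw [conjBy_inv_eq_iff, conjBy_conjBy, sl2_conjBy_upper s hs]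

/-- `SL₂(k)` is a rank one group. -/
theorem sl2_isRankOnePair : IsRankOnePair (lowerUnipotentSL2 k) (upperUnipotentSL2 k) where
  ne := lower_ne_upper
  nilpotent_left := isNilpotent_of_isMulCommutative lower_comm
  nilpotent_right := isNilpotent_of_isMulCommutative upper_comm
  cond_left := by
    intro a ha ha1
    obtain ⟨s, rfl⟩ := mem_lower_iff.1 ha
    have hs : s ≠ 0 := fun h => ha1 (by rw [h, lo_zero])
    exact ⟨up k s⁻¹, up_mem _, fun h => inv_ne_zero hs (up_injective (h.trans up_zero.symm)), sl2_partner s hs⟩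
  cond_right := by
    intro b hb hb1
    obtain ⟨t, rfl⟩ := mem_upper_iff.1 hb
    have ht : t ≠ 0 := fun h => hb1 (by rw [h, up_zero])
    refine ⟨lo k t⁻¹, lo_mem _, fun h => inv_ne_zero ht (lo_injective (h.trans lo_zero.symm)), ?_⟩
    have := sl2_partner t⁻¹ (inv_ne_zero ht)
    rw [inv_inv] at this
    exact this.symm

theorem sl2_isSpecial : IsSpecialRankOnePair (lowerUnipotentSL2 k) (upperUnipotentSL2 k) := by
  refine ⟨sl2_isRankOnePair, ?_⟩
  intro a ha ha1 b hb hb1 hab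
  obtain ⟨s, rfl⟩ := mem_lower_iff.1 ha
  have hs : s ≠ 0 := fun h => ha1 (by rw [h, lo_zero])
  have hb' : b = up k s⁻¹ := rankOne_existsUnique_right sl2_isRankOnePair hb (up_mem _) hab (sl2_partner s hs)
  subst hb'
  rw [← up_neg, ← lo_neg]
  apply sl2_ext <;> simp only [sl2_mul, lo_00, lo_01, lo_10, lo_11, up_00, up_01, up_10, up_11] <;>
    field_simp <;> ring

/-- Images of `SL₂(k)` with central kernel are special rank one groups. -/
theorem isSpecialRankOnePair_of_isPSL2PairOver {G : Type*} [Group G] {A B : Subgroup G}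
    (h : IsPSL2PairOver k A B) : IsSpecialRankOnePair A B := by
  obtain ⟨φ, hr, hker, rfl, rfl⟩ := h
  have hne : (lowerUnipotentSL2 k).map φ ≠ (upperUnipotentSL2 k).map φ := by
    intro h
    have h1 : φ (lo k 1) ∈ (upperUnipotentSL2 k).map φ := by
      rw [← h]; exact Subgroup.mem_map_of_mem φ (lo_mem 1)
    obtain ⟨u, hu, huc⟩ := h1
    obtain ⟨c, rfl⟩ := mem_upper_iff.1 hu
    have h2 : (up k c)⁻¹ * lo k 1 ∈ φ.ker := by
      rw [MonoidHom.mem_ker, map_mul, map_inv, huc, inv_mul_cancel]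
    have h3 := hker h2
    rw [Subgroup.mem_center_iff] at h3
    have h4 := h3 (up k 1)
    rw [← up_neg] at h4
    have h5 := congrArg (fun g : Matrix.SpecialLinearGroup (Fin 2) k => (g : Matrix (Fin 2) (Fin 2) k) 1 1) h4
    simp only [sl2_mul, lo_00, lo_01, lo_10, lo_11, up_00, up_01, up_10, up_11] at h5
    simp at h5
  exact IsSpecialRankOnePair_symm (IsSpecialRankOnePair_map sl2_isSpecial φ hne)

theorem isRankOnePair_of_isPSL2PairOver {G : Type*} [Group G] {A B : Subgroup G}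
    (h : IsPSL2PairOver k A B) : IsRankOnePair A B := (isSpecialRankOnePair_of_isPSL2PairOver h).1

end SL2

end Cfsg.Agent.H731
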