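/-
Lemma L1 for quadratic pairs (helper731): a subgroup of `SL₂(R)` generated by `u(c), l(cz)`, `c ∈ k`, all of whose
lower left entries are zero or units and which covers `SL₂` of a residue field `F` of `R = k[z]`, forces `R` to be a
field and contains all `u(x)`.
-/
import Cfsg.Agent.H731.RankOne

set_option autoImplicit false
open Cfsg

namespace Cfsg.Agent.H731

section defs

variable {R : Type*} [CommRing R]

/-- lower unitriangular matrix over a commutative ring -/
def loR (c : R) : Matrix.SpecialLinearGroup (Fin 2) R := ⟨!![1, 0; c, 1], by simp [Matrix.det_fin_two_of]⟩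

/-- upper unitriangular matrix over a commutative ring -/
def upR (c : R) : Matrix.SpecialLinearGroup (Fin 2) R := ⟨!![1, c; 0, 1], by simp [Matrix.det_fin_two_of]⟩

theorem slR_ext {g h : Matrix.SpecialLinearGroup (Fin 2) R}
    (h00 : (g : Matrix (Fin 2) (Fin 2) R) 0 0 = (h : Matrix (Fin 2) (Fin 2) R) 0 0)
    (h01 : (g : Matrix (Fin 2) (Fin 2) R) 0 1 = (h : Matrix (Fin 2) (Fin 2) R) 0 1)
    (h10 : (g : Matrix (Fin 2) (Fin 2) R) 1 0 = (h : Matrix (Fin 2) (Fin 2) R) 1 0)
    (h11 : (g : Matrix (Fin 2) (Fin 2) R) 1 1 = (h : Matrix (Fin 2) (Fin 2) R) 1 1) : g = h := by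
  apply Matrix.SpecialLinearGroup.ext
  intro i j
  fin_cases i <;> fin_cases j <;> assumption

theorem slR_mul (g h : Matrix.SpecialLinearGroup (Fin 2) R) (i j : Fin 2) :
    ((g * h : Matrix.SpecialLinearGroup (Fin 2) R) : Matrix (Fin 2) (Fin 2) R) i j =
      (g : Matrix (Fin 2) (Fin 2) R) i 0 * (h : Matrix (Fin 2) (Fin 2) R) 0 j +
      (g : Matrix (Fin 2) (Fin 2) R) i 1 * (h : Matrix (Fin 2) (Fin 2) R) 1 j := by
  change ((g : Matrix (Fin 2) (Fin 2) R) * (h : Matrix (Fin 2) (Fin 2) R)) i j = _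
  rw [Matrix.mul_apply, Fin.sum_univ_two]

theorem slR_det (g : Matrix.SpecialLinearGroup (Fin 2) R) :
    (g : Matrix (Fin 2) (Fin 2) R) 0 0 * (g : Matrix (Fin 2) (Fin 2) R) 1 1
        - (g : Matrix (Fin 2) (Fin 2) R) 0 1 * (g : Matrix (Fin 2) (Fin 2) R) 1 0 = 1 := by
  have := Matrix.SpecialLinearGroup.det_coe g
  rwa [Matrix.det_fin_two] at this

theorem slR_inv00 (g : Matrix.SpecialLinearGroup (Fin 2) R) :
    ((g⁻¹ : Matrix.SpecialLinearGroup (Fin 2) R) : Matrix (Fin 2) (Fin 2) R) 0 0 = (g : Matrix (Fin 2) (Fin 2) R) 1 1 := by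
  rw [Matrix.SpecialLinearGroup.coe_inv, Matrix.adjugate_fin_two]; rfl
theorem slR_inv01 (g : Matrix.SpecialLinearGroup (Fin 2) R) :
    ((g⁻¹ : Matrix.SpecialLinearGroup (Fin 2) R) : Matrix (Fin 2) (Fin 2) R) 0 1 = -(g : Matrix (Fin 2) (Fin 2) R) 0 1 := by
  rw [Matrix.SpecialLinearGroup.coe_inv, Matrix.adjugate_fin_two]; rfl
theorem slR_inv10 (g : Matrix.SpecialLinearGroup (Fin 2) R) :
    ((g⁻¹ : Matrix.SpecialLinearGroup (Fin 2) R) : Matrix (Fin 2) (Fin 2) R) 1 0 = -(g : Matrix (Fin 2) (Fin 2) R) 1 0 := by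
  rw [Matrix.SpecialLinearGroup.coe_inv, Matrix.adjugate_fin_two]; rfl
theorem slR_inv11 (g : Matrix.SpecialLinearGroup (Fin 2) R) :
    ((g⁻¹ : Matrix.SpecialLinearGroup (Fin 2) R) : Matrix (Fin 2) (Fin 2) R) 1 1 = (g : Matrix (Fin 2) (Fin 2) R) 0 0 := by
  rw [Matrix.SpecialLinearGroup.coe_inv, Matrix.adjugate_fin_two]; rfl

theorem loR_00 (c : R) : (loR c : Matrix (Fin 2) (Fin 2) R) 0 0 = 1 := rfl
theorem loR_01 (c : R) : (loR c : Matrix (Fin 2) (Fin 2) R) 0 1 = 0 := rfl
theorem loR_10 (c : R) : (loR c : Matrix (Fin 2) (Fin 2) R) 1 0 = c := rfl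
theorem loR_11 (c : R) : (loR c : Matrix (Fin 2) (Fin 2) R) 1 1 = 1 := rfl
theorem upR_00 (c : R) : (upR c : Matrix (Fin 2) (Fin 2) R) 0 0 = 1 := rfl
theorem upR_01 (c : R) : (upR c : Matrix (Fin 2) (Fin 2) R) 0 1 = c := rfl
theorem upR_10 (c : R) : (upR c : Matrix (Fin 2) (Fin 2) R) 1 0 = 0 := rfl
theorem upR_11 (c : R) : (upR c : Matrix (Fin 2) (Fin 2) R) 1 1 = 1 := rfl
theorem oneR_00 : ((1 : Matrix.SpecialLinearGroup (Fin 2) R) : Matrix (Fin 2) (Fin 2) R) 0 0 = 1 := by
  rw [Matrix.SpecialLinearGroup.coe_one]; simp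
theorem oneR_01 : ((1 : Matrix.SpecialLinearGroup (Fin 2) R) : Matrix (Fin 2) (Fin 2) R) 0 1 = 0 := by
  rw [Matrix.SpecialLinearGroup.coe_one]; simp
theorem oneR_10 : ((1 : Matrix.SpecialLinearGroup (Fin 2) R) : Matrix (Fin 2) (Fin 2) R) 1 0 = 0 := by
  rw [Matrix.SpecialLinearGroup.coe_one]; simp
theorem oneR_11 : ((1 : Matrix.SpecialLinearGroup (Fin 2) R) : Matrix (Fin 2) (Fin 2) R) 1 1 = 1 := by
  rw [Matrix.SpecialLinearGroup.coe_one]; simp

theorem loR_add (c d : R) : loR (c + d) = loR c * loR d := by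
  apply slR_ext <;> simp only [slR_mul, loR_00, loR_01, loR_10, loR_11] <;> ring

theorem upR_add (c d : R) : upR (c + d) = upR c * upR d := by
  apply slR_ext <;> simp only [slR_mul, upR_00, upR_01, upR_10, upR_11] <;> ring

theorem loR_zero : loR (0 : R) = 1 := by
  apply slR_ext <;> simp only [loR_00, loR_01, loR_10, loR_11, oneR_00, oneR_01, oneR_10, oneR_11]

theorem upR_zero : upR (0 : R) = 1 := by
  apply slR_ext <;> simp only [upR_00, upR_01, upR_10, upR_11, oneR_00, oneR_01, oneR_10, oneR_11]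

theorem loR_neg (c : R) : loR (-c) = (loR c)⁻¹ := by
  rw [eq_inv_iff_mul_eq_one, ← loR_add, neg_add_cancel, loR_zero]

theorem upR_neg (c : R) : upR (-c) = (upR c)⁻¹ := by
  rw [eq_inv_iff_mul_eq_one, ← upR_add, neg_add_cancel, upR_zero]

end defs

section L1

variable {k : Type*} [Field k] {R : Type*} [CommRing R] [Algebra k R] {F : Type*} [Field F] [Algebra k F]

/-- **Lemma L1.** -/
theorem L1 (hk2 : ringChar k ≠ 2) (φ : R →ₐ[k] F) {z : R} (hz : IsUnit z)
    (hgen : Algebra.adjoin k ({z} : Set R) = ⊤) (H : Subgroup (Matrix.SpecialLinearGroup (Fin 2) R))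
    (hu : ∀ c : k, upR (algebraMap k R c) ∈ H) (hl : loR z ∈ H)
    (hlift : ∀ a : F, ∃ g ∈ H, φ ((g : Matrix (Fin 2) (Fin 2) R) 0 0) = 1 ∧ φ ((g : Matrix (Fin 2) (Fin 2) R) 0 1) = a ∧
      φ ((g : Matrix (Fin 2) (Fin 2) R) 1 0) = 0)
    (h10 : ∀ g ∈ H, (g : Matrix (Fin 2) (Fin 2) R) 1 0 = 0 ∨ IsUnit ((g : Matrix (Fin 2) (Fin 2) R) 1 0)) :
    (∀ x : R, upR x ∈ H) ∧ (∀ x : R, φ x = 0 → x = 0) ∧ (∀ x : R, loR x ∈ H) := by
  have h2k : (2 : k) ≠ 0 := Ring.two_ne_zero hk2
  have h2F : (2 : F) ≠ 0 := by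
    have := (map_ne_zero (algebraMap k F)).2 h2k
    rwa [map_ofNat] at this
  have h2R : IsUnit (2 : R) := by
    have := (IsUnit.mk0 _ h2k).map (algebraMap k R)
    rwa [map_ofNat] at this
  have hφu : ∀ x : R, IsUnit x → φ x ≠ 0 := fun x hx => (hx.map φ).ne_zero
  have hzF : φ z ≠ 0 := hφu z hz
  -- entries that vanish in F vanish
  have h10' : ∀ g ∈ H, φ ((g : Matrix (Fin 2) (Fin 2) R) 1 0) = 0 → (g : Matrix (Fin 2) (Fin 2) R) 1 0 = 0 := by
    intro g hg h0
    rcases h10 g hg with h | h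
    · exact h
    · exact absurd h0 (hφu _ h)
  have U_add : ∀ x y : R, upR x ∈ H → upR y ∈ H → upR (x + y) ∈ H := fun x y hx hy => by
    rw [upR_add]; exact H.mul_mem hx hy
  have U_neg : ∀ x : R, upR x ∈ H → upR (-x) ∈ H := fun x hx => by
    rw [upR_neg]; exact H.inv_mem hx
  have U_sub : ∀ x y : R, upR x ∈ H → upR y ∈ H → upR (x - y) ∈ H := fun x y hx hy => by
    rw [sub_eq_add_neg]; exact U_add _ _ hx (U_neg _ hy)
  have U_one : upR (1 : R) ∈ H := by
    have := hu 1; rwa [map_one] at this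
  have U_zero : upR (0 : R) ∈ H := by rw [upR_zero]; exact H.one_mem
  -- (a)
  have stepA : ∀ x : R, upR x ∈ H → φ x = 0 → x = 0 := by
    intro x hx h0
    have hm : loR z * upR x * (loR z)⁻¹ ∈ H := H.mul_mem (H.mul_mem hl hx) (H.inv_mem hl)
    have e : ((loR z * upR x * (loR z)⁻¹ : Matrix.SpecialLinearGroup (Fin 2) R) : Matrix (Fin 2) (Fin 2) R) 1 0 =
        -(z ^ 2 * x) := by
      rw [← loR_neg]
      simp only [slR_mul, loR_00, loR_01, loR_10, loR_11, upR_00, upR_01, upR_10, upR_11]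
      ring
    have h1 := h10' _ hm (by rw [e, map_neg, map_mul, h0, mul_zero, neg_zero])
    rw [e, neg_eq_zero] at h1
    exact (hz.pow 2).mul_right_eq_zero.1 h1
  -- (b)
  have stepB : ∀ a : F, ∃ x : R, upR x ∈ H ∧ φ x = a := by
    intro a
    obtain ⟨g, hg, g00, g01, g10⟩ := hlift (a / 2)
    have e10 := h10' g hg g10
    have hdet := slR_det g
    set y := (g : Matrix (Fin 2) (Fin 2) R) 0 0 with hy
    set b := (g : Matrix (Fin 2) (Fin 2) R) 0 1 with hb
    set y' := (g : Matrix (Fin 2) (Fin 2) R) 1 1 with hy'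
    rw [e10, mul_zero, sub_zero] at hdet
    have e1 : g * upR 1 * g⁻¹ = upR (y ^ 2) := by
      apply slR_ext <;> simp only [slR_mul, slR_inv00, slR_inv01, slR_inv10, slR_inv11, upR_00, upR_01, upR_10, upR_11,
        e10, ← hy, ← hb, ← hy']
      · linear_combination hdet
      · ring
      · ring
      · linear_combination hdet
    have m1 : upR (y ^ 2 - 1) ∈ H := by
      apply U_sub _ _ _ U_one
      rw [← e1]; exact H.mul_mem (H.mul_mem hg U_one) (H.inv_mem hg)
    have h1 := stepA _ m1 (by rw [map_sub, map_pow, g00]; simp)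
    have hyy : y * y = 1 := by linear_combination h1
    have hyy' : y' = y := by
      calc y' = (y * y) * y' := by rw [hyy, one_mul]
        _ = y * (y * y') := by ring
        _ = y := by rw [hdet, mul_one]
    have e2 : g * g = upR (2 * y * b) := by
      apply slR_ext <;> simp only [slR_mul, upR_00, upR_01, upR_10, upR_11, e10, ← hy, ← hb, ← hy', hyy']
      · linear_combination hyy
      · ring
      · ring
      · linear_combination hyy
    refine ⟨2 * y * b, by rw [← e2]; exact H.mul_mem hg hg, ?_⟩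
    rw [map_mul, map_mul, g00, g01, map_ofNat]
    field_simp
  -- (c)
  have stepC : ∀ x w : R, upR x ∈ H → loR w ∈ H → φ x * φ w = -1 → x * w = -1 := by
    intro x w hx hw hxw
    have hm : (upR x * loR w * upR x) * (upR x * loR w * upR x) ∈ H :=
      H.mul_mem (H.mul_mem (H.mul_mem hx hw) hx) (H.mul_mem (H.mul_mem hx hw) hx)
    have e : (((upR x * loR w * upR x) * (upR x * loR w * upR x) : Matrix.SpecialLinearGroup (Fin 2) R) :
        Matrix (Fin 2) (Fin 2) R) 1 0 = 2 * w * (1 + x * w) := by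
      simp only [slR_mul, loR_00, loR_01, loR_10, loR_11, upR_00, upR_01, upR_10, upR_11]
      ring
    have h1 := h10' _ hm (by rw [e, map_mul, map_add, map_mul φ x w, map_one, hxw]; ring)
    rw [e] at h1
    have hwu : IsUnit w := by
      rcases h10 _ hw with h | h
      · rw [loR_10] at h
        rw [h, map_zero, mul_zero] at hxw
        have : (0 : F) ≠ -1 := by
          intro h3; apply one_ne_zero (α := F); rw [eq_comm, neg_eq_zero] at h3; exact h3
        exact absurd hxw this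
      · exact h
    have h3 := (h2R.mul hwu).mul_right_eq_zero.1 h1
    linear_combination h3
  obtain ⟨x₀, hx₀, hx₀'⟩ := stepB (-(φ z)⁻¹)
  have hx₀z : x₀ * z = -1 := stepC x₀ z hx₀ hl (by rw [hx₀']; field_simp)
  -- the element n₁
  set n₁ := upR x₀ * loR z * upR x₀ with hn₁
  have hn₁H : n₁ ∈ H := H.mul_mem (H.mul_mem hx₀ hl) hx₀
  have n00 : (n₁ : Matrix (Fin 2) (Fin 2) R) 0 0 = 0 := by
    rw [hn₁]; simp only [slR_mul, loR_00, loR_01, loR_10, loR_11, upR_00, upR_01, upR_10, upR_11]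
    linear_combination hx₀z
  have n01 : (n₁ : Matrix (Fin 2) (Fin 2) R) 0 1 = x₀ := by
    rw [hn₁]; simp only [slR_mul, loR_00, loR_01, loR_10, loR_11, upR_00, upR_01, upR_10, upR_11]
    linear_combination x₀ * hx₀z
  have n10 : (n₁ : Matrix (Fin 2) (Fin 2) R) 1 0 = z := by
    rw [hn₁]; simp only [slR_mul, loR_00, loR_01, loR_10, loR_11, upR_00, upR_01, upR_10, upR_11]
    ring
  have n11 : (n₁ : Matrix (Fin 2) (Fin 2) R) 1 1 = 0 := by
    rw [hn₁]; simp only [slR_mul, loR_00, loR_01, loR_10, loR_11, upR_00, upR_01, upR_10, upR_11]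
    linear_combination hx₀z
  -- (d)
  have stepD : ∀ y : R, upR y ∈ H → loR (-(z ^ 2 * y)) ∈ H := by
    intro y hy
    have e : n₁ * upR y * n₁⁻¹ = loR (-(z ^ 2 * y)) := by
      apply slR_ext <;> simp only [slR_mul, slR_inv00, slR_inv01, slR_inv10, slR_inv11, loR_00, loR_01, loR_10, loR_11,
        upR_00, upR_01, upR_10, upR_11, n00, n01, n10, n11]
      · linear_combination -hx₀z
      · ring
      · ring
      · linear_combination -hx₀z
    rw [← e]; exact H.mul_mem (H.mul_mem hn₁H hy) (H.inv_mem hn₁H)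
  -- (e)
  have stepN : ∀ y : R, upR y ∈ H → φ y ≠ 0 → ∃ w : R, y * w = -1 ∧ loR w ∈ H := by
    intro y hy hy0
    obtain ⟨y', hy', hy''⟩ := stepB ((φ z ^ 2)⁻¹ * (φ y)⁻¹)
    refine ⟨-(z ^ 2 * y'), ?_, stepD _ hy'⟩
    apply stepC _ _ hy (stepD _ hy')
    rw [map_neg, map_mul, map_pow, hy'']
    field_simp
  have stepE : ∀ y v : R, upR y ∈ H → upR v ∈ H → upR (y ^ 2 * v) ∈ H := by
    intro y v hy hv
    by_cases hy0 : φ y = 0
    · have := stepA y hy hy0
      rw [this]; simpa using U_zero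
    · obtain ⟨w, hyw, hw⟩ := stepN y hy hy0
      obtain ⟨w1, hyw1, hw1⟩ := stepN 1 U_one (by rw [map_one]; exact one_ne_zero)
      rw [one_mul] at hyw1
      subst hyw1
      have hd : (upR y * loR w * upR y) * (upR 1 * loR (-1) * upR 1)⁻¹ ∈ H :=
        H.mul_mem (H.mul_mem (H.mul_mem hy hw) hy) (H.inv_mem (H.mul_mem (H.mul_mem U_one hw1) U_one))
      set D := (upR y * loR w * upR y) * (upR 1 * loR (-1) * upR 1)⁻¹ with hD
      have e1 : (upR 1 * loR (-1) * upR 1 : Matrix.SpecialLinearGroup (Fin 2) R)⁻¹ = upR (-1) * loR 1 * upR (-1) := by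
        rw [mul_inv_rev, mul_inv_rev, ← upR_neg, ← loR_neg, neg_neg, mul_assoc]
      have d00 : (D : Matrix (Fin 2) (Fin 2) R) 0 0 = y := by
        rw [hD, e1]
        simp only [slR_mul, loR_00, loR_01, loR_10, loR_11, upR_00, upR_01, upR_10, upR_11]
        linear_combination y * hyw
      have d01 : (D : Matrix (Fin 2) (Fin 2) R) 0 1 = 0 := by
        rw [hD, e1]
        simp only [slR_mul, loR_00, loR_01, loR_10, loR_11, upR_00, upR_01, upR_10, upR_11]
        linear_combination -hyw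
      have d10 : (D : Matrix (Fin 2) (Fin 2) R) 1 0 = 0 := by
        rw [hD, e1]
        simp only [slR_mul, loR_00, loR_01, loR_10, loR_11, upR_00, upR_01, upR_10, upR_11]
        linear_combination hyw
      have d11 : (D : Matrix (Fin 2) (Fin 2) R) 1 1 = -w := by
        rw [hD, e1]
        simp only [slR_mul, loR_00, loR_01, loR_10, loR_11, upR_00, upR_01, upR_10, upR_11]
        ring
      have e : D * upR v * D⁻¹ = upR (y ^ 2 * v) := by
        apply slR_ext <;> simp only [slR_mul, slR_inv00, slR_inv01, slR_inv10, slR_inv11,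
          upR_00, upR_01, upR_10, upR_11, d00, d01, d10, d11]
        · linear_combination -hyw
        · ring
        · ring
        · linear_combination -hyw
      rw [← e]; exact H.mul_mem (H.mul_mem hd hv) (H.inv_mem hd)
  -- (f)
  have stepF : ∀ y v : R, upR y ∈ H → upR v ∈ H → upR (y * v) ∈ H := by
    have h2 : ∀ y v : R, upR y ∈ H → upR v ∈ H → upR (2 * y * v) ∈ H := by
      intro y v hy hv
      have := U_sub _ _ (U_sub _ _ (stepE (y + 1) v (U_add _ _ hy U_one) hv) (stepE y v hy hv)) hv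
      have e : (y + 1) ^ 2 * v - y ^ 2 * v - v = 2 * y * v := by ring
      rwa [e] at this
    intro y v hy hv
    have h3 := h2 _ _ (hu (1 / 4)) (h2 y v hy hv)
    have e : 2 * algebraMap k R (1 / 4) * (2 * y * v) = y * v := by
      have h4 : algebraMap k R (1 / 4) * 4 = 1 := by
        have h5 : (4 : R) = algebraMap k R 4 := by rw [map_ofNat]
        rw [h5, ← map_mul]
        have h6 : (4 : k) ≠ 0 := by
          have : (4 : k) = 2 * 2 := by norm_num
          rw [this]; exact mul_ne_zero h2k h2k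
        rw [one_div, inv_mul_cancel₀ h6, map_one]
      linear_combination (y * v) * h4
    rwa [e] at h3
  -- (g)
  have hzU : upR z ∈ H := by
    obtain ⟨v, hv, hv'⟩ := stepB (φ z)
    have h1 : upR (x₀ * v + 1) ∈ H := U_add _ _ (stepF _ _ hx₀ hv) U_one
    have h3 := stepA _ h1 (by rw [map_add, map_mul, hv', hx₀', map_one]; field_simp; ring)
    have h4 : v = z := by linear_combination (-z) * h3 + v * hx₀z
    rw [← h4]; exact hv
  have hall : ∀ x : R, upR x ∈ H := by
    intro x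
    have hx : x ∈ Algebra.adjoin k ({z} : Set R) := by rw [hgen]; exact Algebra.mem_top
    induction hx using Algebra.adjoin_induction with
    | mem x hx => rw [Set.mem_singleton_iff.1 hx]; exact hzU
    | algebraMap c => exact hu c
    | add x y _ _ hx hy => exact U_add _ _ hx hy
    | mul x y _ _ hx hy => exact stepF _ _ hx hy
  refine ⟨hall, fun x hx => stepA x (hall x) hx, fun x => ?_⟩
  have h1 := stepD (-(x₀ ^ 2 * x)) (hall _)
  have e : -(z ^ 2 * -(x₀ ^ 2 * x)) = x := by linear_combination (x * (x₀ * z - 1)) * hx₀z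
  rwa [e] at h1

end L1

end Cfsg.Agent.H731
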