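/-
Quadratic pairs: root vectors of a linear group (helper731, section 63).

`RV G x`  : `x² = 0` and `1 + c x ∈ G` for all scalars `c`.
`MRV G s` : `s` is a non-zero root vector of minimal rank.
-/
import Cfsg.Agent.H731.RankOne

set_option autoImplicit false
open Cfsg

namespace Cfsg.Agent.H731

variable {k : Type*} [Field k] {M : Type*} [AddCommGroup M] [Module k M]

theorem one_add_mul_one_add {R : Type*} [Ring R] (x y : R) : (1 + x) * (1 + y) = 1 + (x + y) + x * y := by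
  noncomm_ring

theorem one_add_mul_one_sub {R : Type*} [Ring R] (x y : R) : (1 + x) * (1 - y) = 1 + (x - y) - x * y := by
  noncomm_ring

/-- The transvection-like unit `1 + x` for `x² = 0`. -/
def tv (x : M →ₗ[k] M) (hx : x * x = 0) : LinearMap.GeneralLinearGroup k M where
  val := 1 + x
  inv := 1 - x
  val_inv := by
    have : (1 + x) * (1 - x) = 1 - x * x := by noncomm_ring
    rw [this, hx, sub_zero]
  inv_val := by
    have : (1 - x) * (1 + x) = 1 - x * x := by noncomm_ring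
    rw [this, hx, sub_zero]

@[simp] theorem tv_val (x : M →ₗ[k] M) (hx : x * x = 0) : ((tv x hx : LinearMap.GeneralLinearGroup k M) : M →ₗ[k] M) = 1 + x := rfl

@[simp] theorem tv_inv_val (x : M →ₗ[k] M) (hx : x * x = 0) :
    (((tv x hx)⁻¹ : LinearMap.GeneralLinearGroup k M) : M →ₗ[k] M) = 1 - x := rfl

/-- `x` is a root vector of `G`. -/
def RV (G : Subgroup (LinearMap.GeneralLinearGroup k M)) (x : M →ₗ[k] M) : Prop :=
  x * x = 0 ∧ ∀ c : k, ∃ g ∈ G, (g : M →ₗ[k] M) = 1 + c • x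

/-- `s` is a non-zero root vector of `G` of minimal rank. -/
def MRV (G : Subgroup (LinearMap.GeneralLinearGroup k M)) (s : M →ₗ[k] M) : Prop :=
  RV G s ∧ s ≠ 0 ∧ ∀ y, RV G y → y ≠ 0 →
    Module.finrank k (LinearMap.range s) ≤ Module.finrank k (LinearMap.range y)

variable {G : Subgroup (LinearMap.GeneralLinearGroup k M)}

theorem RV_sq {x : M →ₗ[k] M} (h : RV G x) : x * x = 0 := h.1

theorem smul_sq {x : M →ₗ[k] M} (h : x * x = 0) (c : k) : (c • x) * (c • x) = 0 := by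
  rw [smul_mul_smul_comm, h, smul_zero]

theorem RV_mem {x : M →ₗ[k] M} (h : RV G x) (c : k) : tv (c • x) (smul_sq h.1 c) ∈ G := by
  obtain ⟨g, hg, hgx⟩ := h.2 c
  have : tv (c • x) (smul_sq h.1 c) = g := Units.ext hgx.symm
  rw [this]; exact hg

theorem RV_mem_one {x : M →ₗ[k] M} (h : RV G x) : tv x h.1 ∈ G := by
  obtain ⟨g, hg, hgx⟩ := h.2 1
  have : tv x h.1 = g := Units.ext (by rw [hgx, one_smul]; rfl)
  rw [this]; exact hg

theorem RV_of_mem {x : M →ₗ[k] M} (hx : x * x = 0) (h : ∀ c : k, tv (c • x) (smul_sq hx c) ∈ G) : RV G x :=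
  ⟨hx, fun c => ⟨_, h c, rfl⟩⟩

theorem RV_zero : RV G (0 : M →ₗ[k] M) :=
  ⟨mul_zero _, fun c => ⟨1, G.one_mem, by simp⟩⟩

theorem RV_smul {x : M →ₗ[k] M} (h : RV G x) (c : k) : RV G (c • x) :=
  ⟨smul_sq h.1 c, fun d => by
    obtain ⟨g, hg, hgx⟩ := h.2 (d * c)
    exact ⟨g, hg, by rw [hgx, mul_smul]⟩⟩

theorem RV_neg {x : M →ₗ[k] M} (h : RV G x) : RV G (-x) := by
  have := RV_smul h (-1 : k)
  rwa [neg_one_smul] at this

theorem RV_add {x y : M →ₗ[k] M} (hx : RV G x) (hy : RV G y) (hxy : x * y = 0) (hyx : y * x = 0) : RV G (x + y) := by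
  refine ⟨?_, fun c => ?_⟩
  · have : (x + y) * (x + y) = x * x + x * y + y * x + y * y := by noncomm_ring
    rw [this, hx.1, hy.1, hxy, hyx]; simp
  · obtain ⟨g, hg, hgx⟩ := hx.2 c
    obtain ⟨h, hh, hhy⟩ := hy.2 c
    refine ⟨g * h, G.mul_mem hg hh, ?_⟩
    rw [Units.val_mul, hgx, hhy]
    rw [one_add_mul_one_add, smul_mul_smul_comm, hxy, smul_zero, add_zero, smul_add]

theorem RV_sub {x y : M →ₗ[k] M} (hx : RV G x) (hy : RV G y) (hxy : x * y = 0) (hyx : y * x = 0) : RV G (x - y) := by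
  rw [sub_eq_add_neg]
  exact RV_add hx (RV_neg hy) (by rw [mul_neg, hxy, neg_zero]) (by rw [neg_mul, hyx, neg_zero])

/-- conjugation on endomorphisms -/
def cj (g : LinearMap.GeneralLinearGroup k M) (x : M →ₗ[k] M) : M →ₗ[k] M :=
  (g : M →ₗ[k] M) * x * ((g⁻¹ : LinearMap.GeneralLinearGroup k M) : M →ₗ[k] M)

theorem cj_mul (g : LinearMap.GeneralLinearGroup k M) (x y : M →ₗ[k] M) : cj g (x * y) = cj g x * cj g y := by
  unfold cj
  have h : ((g⁻¹ : LinearMap.GeneralLinearGroup k M) : M →ₗ[k] M) * (g : M →ₗ[k] M) = 1 := Units.inv_mul g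
  calc (g : M →ₗ[k] M) * (x * y) * ((g⁻¹ : LinearMap.GeneralLinearGroup k M) : M →ₗ[k] M)
      = (g : M →ₗ[k] M) * x * 1 * y * ((g⁻¹ : LinearMap.GeneralLinearGroup k M) : M →ₗ[k] M) := by noncomm_ring
    _ = _ := by rw [← h]; noncomm_ring

theorem cj_add (g : LinearMap.GeneralLinearGroup k M) (x y : M →ₗ[k] M) : cj g (x + y) = cj g x + cj g y := by
  unfold cj; noncomm_ring

theorem cj_sub (g : LinearMap.GeneralLinearGroup k M) (x y : M →ₗ[k] M) : cj g (x - y) = cj g x - cj g y := by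
  unfold cj; noncomm_ring

theorem cj_neg (g : LinearMap.GeneralLinearGroup k M) (x : M →ₗ[k] M) : cj g (-x) = -cj g x := by
  unfold cj; noncomm_ring

theorem cj_smul (g : LinearMap.GeneralLinearGroup k M) (c : k) (x : M →ₗ[k] M) : cj g (c • x) = c • cj g x := by
  unfold cj; rw [mul_smul_comm, smul_mul_assoc]

theorem cj_zero (g : LinearMap.GeneralLinearGroup k M) : cj g (0 : M →ₗ[k] M) = 0 := by
  unfold cj; rw [mul_zero, zero_mul]

theorem cj_one (g : LinearMap.GeneralLinearGroup k M) : cj g (1 : M →ₗ[k] M) = 1 := by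
  unfold cj; rw [mul_one]; exact Units.mul_inv g

theorem cj_cj (g h : LinearMap.GeneralLinearGroup k M) (x : M →ₗ[k] M) : cj g (cj h x) = cj (g * h) x := by
  unfold cj
  rw [mul_inv_rev, Units.val_mul, Units.val_mul]
  noncomm_ring

theorem cj_one_left (x : M →ₗ[k] M) : cj (1 : LinearMap.GeneralLinearGroup k M) x = x := by
  unfold cj; simp

theorem cj_inv_cj (g : LinearMap.GeneralLinearGroup k M) (x : M →ₗ[k] M) : cj g⁻¹ (cj g x) = x := by
  rw [cj_cj, inv_mul_cancel, cj_one_left]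

theorem cj_cj_inv (g : LinearMap.GeneralLinearGroup k M) (x : M →ₗ[k] M) : cj g (cj g⁻¹ x) = x := by
  rw [cj_cj, mul_inv_cancel, cj_one_left]

theorem cj_eq_zero {g : LinearMap.GeneralLinearGroup k M} {x : M →ₗ[k] M} : cj g x = 0 ↔ x = 0 := by
  constructor
  · intro h
    rw [← cj_inv_cj g x, h, cj_zero]
  · rintro rfl; exact cj_zero g

theorem cj_val (g h : LinearMap.GeneralLinearGroup k M) :
    cj g (h : M →ₗ[k] M) = ((g * h * g⁻¹ : LinearMap.GeneralLinearGroup k M) : M →ₗ[k] M) := by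
  unfold cj; rw [Units.val_mul, Units.val_mul]

/-- Conjugation by `1 + y`. -/
theorem cj_tv (y : M →ₗ[k] M) (hy : y * y = 0) (x : M →ₗ[k] M) :
    cj (tv y hy) x = x + (y * x - x * y) - y * x * y := by
  unfold cj; rw [tv_val, tv_inv_val]; noncomm_ring

theorem RV_cj {x : M →ₗ[k] M} (h : RV G x) {g : LinearMap.GeneralLinearGroup k M} (hg : g ∈ G) : RV G (cj g x) := by
  refine ⟨by rw [← cj_mul, h.1, cj_zero], fun c => ?_⟩
  obtain ⟨a, ha, hax⟩ := h.2 c
  refine ⟨g * a * g⁻¹, G.mul_mem (G.mul_mem hg ha) (G.inv_mem hg), ?_⟩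
  rw [← cj_val, hax, cj_add, cj_one, cj_smul]

theorem range_cj (g : LinearMap.GeneralLinearGroup k M) (x : M →ₗ[k] M) :
    LinearMap.range (cj g x) = (LinearMap.range x).map (g : M →ₗ[k] M) := by
  unfold cj
  ext v
  constructor
  · rintro ⟨w, rfl⟩
    exact ⟨x (((g⁻¹ : LinearMap.GeneralLinearGroup k M) : M →ₗ[k] M) w), ⟨_, rfl⟩, rfl⟩
  · rintro ⟨_, ⟨w, rfl⟩, rfl⟩
    refine ⟨(g : M →ₗ[k] M) w, ?_⟩
    have h : ((g⁻¹ : LinearMap.GeneralLinearGroup k M) : M →ₗ[k] M) ((g : M →ₗ[k] M) w) = w := by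
      rw [← Module.End.mul_apply, Units.inv_mul, Module.End.one_apply]
    rw [Module.End.mul_apply, Module.End.mul_apply, h]

theorem ker_cj (g : LinearMap.GeneralLinearGroup k M) (x : M →ₗ[k] M) :
    LinearMap.ker (cj g x) = (LinearMap.ker x).map (g : M →ₗ[k] M) := by
  unfold cj
  have h1 : ∀ w, ((g⁻¹ : LinearMap.GeneralLinearGroup k M) : M →ₗ[k] M) ((g : M →ₗ[k] M) w) = w := fun w => by
    rw [← Module.End.mul_apply, Units.inv_mul, Module.End.one_apply]
  have h2 : ∀ w, (g : M →ₗ[k] M) (((g⁻¹ : LinearMap.GeneralLinearGroup k M) : M →ₗ[k] M) w) = w := fun w => by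
    rw [← Module.End.mul_apply, Units.mul_inv, Module.End.one_apply]
  ext v
  constructor
  · intro hv
    rw [LinearMap.mem_ker, Module.End.mul_apply, Module.End.mul_apply] at hv
    refine ⟨((g⁻¹ : LinearMap.GeneralLinearGroup k M) : M →ₗ[k] M) v, ?_, h2 v⟩
    have := congrArg (fun w => ((g⁻¹ : LinearMap.GeneralLinearGroup k M) : M →ₗ[k] M) w) hv
    simp only [h1, map_zero] at this
    exact this
  · rintro ⟨w, hw, rfl⟩
    rw [LinearMap.mem_ker, Module.End.mul_apply, Module.End.mul_apply, h1]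
    have : x w = 0 := hw
    rw [this, map_zero]

theorem injective_val (g : LinearMap.GeneralLinearGroup k M) : Function.Injective (g : M →ₗ[k] M) := by
  intro v w h
  have h1 : ∀ w, ((g⁻¹ : LinearMap.GeneralLinearGroup k M) : M →ₗ[k] M) ((g : M →ₗ[k] M) w) = w := fun w => by
    rw [← Module.End.mul_apply, Units.inv_mul, Module.End.one_apply]
  rw [← h1 v, ← h1 w, h]

theorem finrank_range_cj (g : LinearMap.GeneralLinearGroup k M) (x : M →ₗ[k] M) :
    Module.finrank k (LinearMap.range (cj g x)) = Module.finrank k (LinearMap.range x) := by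
  rw [range_cj]
  exact (Submodule.equivMapOfInjective (g : M →ₗ[k] M) (injective_val g) (LinearMap.range x)).finrank_eq.symm

theorem range_smul {x : M →ₗ[k] M} {c : k} (hc : c ≠ 0) : LinearMap.range (c • x) = LinearMap.range x :=
  LinearMap.range_smul x c hc

theorem ker_smul {x : M →ₗ[k] M} {c : k} (hc : c ≠ 0) : LinearMap.ker (c • x) = LinearMap.ker x :=
  LinearMap.ker_smul x c hc

theorem MRV_cj {s : M →ₗ[k] M} (h : MRV G s) {g : LinearMap.GeneralLinearGroup k M} (hg : g ∈ G) : MRV G (cj g s) :=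
  ⟨RV_cj h.1 hg, fun h0 => h.2.1 (cj_eq_zero.1 h0), fun y hy hy0 => by
    rw [finrank_range_cj]; exact h.2.2 y hy hy0⟩

theorem MRV_smul {s : M →ₗ[k] M} (h : MRV G s) {c : k} (hc : c ≠ 0) : MRV G (c • s) :=
  ⟨RV_smul h.1 c, fun h0 => h.2.1 ((smul_eq_zero.1 h0).resolve_left hc), fun y hy hy0 => by
    rw [range_smul hc]; exact h.2.2 y hy hy0⟩

theorem MRV_eq_zero_of_lt {s y : M →ₗ[k] M} (h : MRV G s) (hy : RV G y)
    (hlt : Module.finrank k (LinearMap.range y) < Module.finrank k (LinearMap.range s)) : y = 0 := by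
  by_contra hy0
  exact absurd (h.2.2 y hy hy0) (not_le.2 hlt)

/-- A non-zero root vector whose rank is at most the minimal rank is minimal. -/
theorem MRV_of_le {s y : M →ₗ[k] M} (h : MRV G s) (hy : RV G y) (hy0 : y ≠ 0)
    (hle : Module.finrank k (LinearMap.range y) ≤ Module.finrank k (LinearMap.range s)) : MRV G y :=
  ⟨hy, hy0, fun z hz hz0 => hle.trans (h.2.2 z hz hz0)⟩

theorem MRV_rank_eq {s t : M →ₗ[k] M} (hs : MRV G s) (ht : MRV G t) :
    Module.finrank k (LinearMap.range s) = Module.finrank k (LinearMap.range t) :=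
  le_antisymm (hs.2.2 t ht.1 ht.2.1) (ht.2.2 s hs.1 hs.2.1)

theorem exists_sq_sub_sq (hk : ringChar k ≠ 2) (c : k) : ∃ a b : k, a ^ 2 - b ^ 2 = c := by
  have h2 : (2 : k) ≠ 0 := Ring.two_ne_zero hk
  refine ⟨(c + 1) / 2, (c - 1) / 2, ?_⟩
  field_simp
  ring

/-- It suffices to know `1 + c² x ∈ G`. -/
theorem RV_of_squares (hk : ringChar k ≠ 2) {x : M →ₗ[k] M} (hx : x * x = 0)
    (h : ∀ c : k, ∃ g ∈ G, (g : M →ₗ[k] M) = 1 + (c ^ 2) • x) : RV G x := by
  refine RV_of_mem hx fun c => ?_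
  obtain ⟨a, b, hab⟩ := exists_sq_sub_sq hk c
  have ha : tv (a ^ 2 • x) (smul_sq hx _) ∈ G := by
    obtain ⟨g, hg, hgx⟩ := h a
    have : tv (a ^ 2 • x) (smul_sq hx _) = g := Units.ext hgx.symm
    rw [this]; exact hg
  have hb : tv (b ^ 2 • x) (smul_sq hx _) ∈ G := by
    obtain ⟨g, hg, hgx⟩ := h b
    have : tv (b ^ 2 • x) (smul_sq hx _) = g := Units.ext hgx.symm
    rw [this]; exact hg
  have hc : tv (c • x) (smul_sq hx c) = tv (a ^ 2 • x) (smul_sq hx _) * (tv (b ^ 2 • x) (smul_sq hx _))⁻¹ := by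
    apply Units.ext
    rw [Units.val_mul, tv_val, tv_val, tv_inv_val]
    rw [one_add_mul_one_sub, smul_mul_smul_comm, hx, smul_zero, sub_zero, ← sub_smul, hab]
  rw [hc]
  exact G.mul_mem ha (G.inv_mem hb)

/-! ### Bridges to the definitions of the Prelude -/

theorem mem_quadraticElements_iff {σ : LinearMap.GeneralLinearGroup k M} :
    σ ∈ quadraticElements G ↔ RV G ((σ : M →ₗ[k] M) - 1) ∧ (σ : M →ₗ[k] M) - 1 ≠ 0 := by
  constructor
  · rintro ⟨-, ⟨h1, h2⟩, h3⟩
    refine ⟨⟨h1, fun c => ?_⟩, h2⟩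
    refine ⟨tv (c • ((σ : M →ₗ[k] M) - 1)) (smul_sq h1 c), h3 ⟨c, rfl⟩, rfl⟩
  · rintro ⟨h1, h2⟩
    refine ⟨?_, ⟨h1.1, h2⟩, ?_⟩
    · have := RV_mem_one h1
      have h3 : tv ((σ : M →ₗ[k] M) - 1) h1.1 = σ := Units.ext (by rw [tv_val]; abel)
      rwa [h3] at this
    · rintro τ ⟨c, hc⟩
      have h3 : tv (c • ((σ : M →ₗ[k] M) - 1)) (smul_sq h1.1 c) = τ := Units.ext hc.symm
      rw [← h3]; exact RV_mem h1 c

theorem tv_mem_quadraticElements {x : M →ₗ[k] M} (h : RV G x) (h0 : x ≠ 0) : tv x h.1 ∈ quadraticElements G := by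
  rw [mem_quadraticElements_iff, tv_val, add_sub_cancel_left]
  exact ⟨h, h0⟩

theorem mem_minimalQuadraticElements_iff {σ : LinearMap.GeneralLinearGroup k M} :
    σ ∈ minimalQuadraticElements G ↔ MRV G ((σ : M →ₗ[k] M) - 1) := by
  constructor
  · rintro ⟨h1, h2⟩
    rw [mem_quadraticElements_iff] at h1
    refine ⟨h1.1, h1.2, fun y hy hy0 => ?_⟩
    have := h2 _ (tv_mem_quadraticElements hy hy0)
    unfold commutatorRank at this
    rwa [tv_val, add_sub_cancel_left] at this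
  · rintro ⟨h1, h2, h3⟩
    refine ⟨mem_quadraticElements_iff.2 ⟨h1, h2⟩, fun τ hτ => ?_⟩
    rw [mem_quadraticElements_iff] at hτ
    exact h3 _ hτ.1 hτ.2

theorem mem_sameActionClass_iff {σ τ : LinearMap.GeneralLinearGroup k M} :
    τ ∈ sameActionClass G σ ↔ MRV G ((τ : M →ₗ[k] M) - 1) ∧
      LinearMap.ker ((τ : M →ₗ[k] M) - 1) = LinearMap.ker ((σ : M →ₗ[k] M) - 1) ∧
      LinearMap.range ((τ : M →ₗ[k] M) - 1) = LinearMap.range ((σ : M →ₗ[k] M) - 1) := by
  unfold sameActionClass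
  rw [Set.mem_ofPred_eq, mem_minimalQuadraticElements_iff]

/-- The root space of a minimal root vector `s`: zero and the root vectors with the same kernel and range. -/
def IsES (G : Subgroup (LinearMap.GeneralLinearGroup k M)) (s x : M →ₗ[k] M) : Prop :=
  RV G x ∧ (x = 0 ∨ (LinearMap.ker x = LinearMap.ker s ∧ LinearMap.range x = LinearMap.range s))

theorem IsES_zero {s : M →ₗ[k] M} : IsES G s 0 := ⟨RV_zero, Or.inl rfl⟩

theorem IsES_self {s : M →ₗ[k] M} (hs : RV G s) : IsES G s s := ⟨hs, Or.inr ⟨rfl, rfl⟩⟩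

theorem IsES_smul {s x : M →ₗ[k] M} (h : IsES G s x) (c : k) : IsES G s (c • x) := by
  refine ⟨RV_smul h.1 c, ?_⟩
  rcases h.2 with h0 | h1
  · left; rw [h0, smul_zero]
  · by_cases hc : c = 0
    · left; rw [hc, zero_smul]
    · right; rw [ker_smul hc, range_smul hc]; exact h1

theorem IsES_neg {s x : M →ₗ[k] M} (h : IsES G s x) : IsES G s (-x) := by
  have := IsES_smul h (-1 : k)
  rwa [neg_one_smul] at this

theorem range_le_ker {x : M →ₗ[k] M} (hx : x * x = 0) : LinearMap.range x ≤ LinearMap.ker x := by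
  rintro _ ⟨v, rfl⟩
  rw [LinearMap.mem_ker, ← Module.End.mul_apply, hx, LinearMap.zero_apply]

theorem mul_eq_zero_of_range_le {x y : M →ₗ[k] M} (h : LinearMap.range y ≤ LinearMap.ker x) : x * y = 0 := by
  ext v
  rw [Module.End.mul_apply, LinearMap.zero_apply]
  exact h ⟨v, rfl⟩

theorem IsES_mul {s x y : M →ₗ[k] M} (hs : RV G s) (hx : IsES G s x) (hy : IsES G s y) : x * y = 0 := by
  rcases hx.2 with h0 | ⟨h1, h2⟩
  · rw [h0, zero_mul]
  rcases hy.2 with h0' | ⟨h3, h4⟩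
  · rw [h0', mul_zero]
  apply mul_eq_zero_of_range_le
  rw [h1, h4]
  exact range_le_ker hs.1

theorem IsES_add [FiniteDimensional k M] {s x y : M →ₗ[k] M} (hs : MRV G s) (hx : IsES G s x) (hy : IsES G s y) :
    IsES G s (x + y) := by
  refine ⟨RV_add hx.1 hy.1 (IsES_mul hs.1 hx hy) (IsES_mul hs.1 hy hx), ?_⟩
  by_cases h0 : x + y = 0
  · left; exact h0
  right
  rcases hx.2 with hx0 | ⟨h1, h2⟩
  · rw [hx0, zero_add] at h0 ⊢
    exact hy.2.resolve_left h0
  rcases hy.2 with hy0 | ⟨h3, h4⟩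
  · rw [hy0, add_zero] at h0 ⊢
    exact ⟨h1, h2⟩
  have hrle : LinearMap.range (x + y) ≤ LinearMap.range s := by
    rintro _ ⟨v, rfl⟩
    rw [LinearMap.add_apply]
    exact Submodule.add_mem _ (h2 ▸ ⟨v, rfl⟩) (h4 ▸ ⟨v, rfl⟩)
  have hkle : LinearMap.ker s ≤ LinearMap.ker (x + y) := by
    intro v hv
    have e1 : x v = 0 := by
      have : v ∈ LinearMap.ker x := by rw [h1]; exact hv
      exact this
    have e2 : y v = 0 := by
      have : v ∈ LinearMap.ker y := by rw [h3]; exact hv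
      exact this
    rw [LinearMap.mem_ker, LinearMap.add_apply, e1, e2, add_zero]
  have hrank := hs.2.2 _ (RV_add hx.1 hy.1 (IsES_mul hs.1 hx hy) (IsES_mul hs.1 hy hx)) h0
  have hr : LinearMap.range (x + y) = LinearMap.range s := Submodule.eq_of_le_of_finrank_le hrle hrank
  refine ⟨?_, hr⟩
  symm
  apply Submodule.eq_of_le_of_finrank_le hkle
  have e1 := LinearMap.finrank_range_add_finrank_ker (x + y)
  have e2 := LinearMap.finrank_range_add_finrank_ker s
  rw [hr] at e1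
  omega

/-- The root space as a subspace of `End M`. -/
def rootSpace [FiniteDimensional k M] (G : Subgroup (LinearMap.GeneralLinearGroup k M)) (s : M →ₗ[k] M)
    (hs : MRV G s) : Submodule k (M →ₗ[k] M) where
  carrier := {x | IsES G s x}
  zero_mem' := IsES_zero
  add_mem' := fun hx hy => IsES_add hs hx hy
  smul_mem' := fun c _ hx => IsES_smul hx c

theorem IsES_MRV {s x : M →ₗ[k] M} (hs : MRV G s) (hx : IsES G s x) (hx0 : x ≠ 0) : MRV G x := by
  obtain ⟨h1, h2⟩ := hx.2.resolve_left hx0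
  exact ⟨hx.1, hx0, fun y hy hy0 => by rw [h2]; exact hs.2.2 y hy hy0⟩

/-- Description of `E(σ)`: `g ∈ E(σ)` iff `g - 1` lies in the root space. -/
theorem mem_sameActionSubgroup_iff [FiniteDimensional k M] {σ g : LinearMap.GeneralLinearGroup k M}
    (hσ : σ ∈ minimalQuadraticElements G) :
    g ∈ sameActionSubgroup G σ ↔ IsES G ((σ : M →ₗ[k] M) - 1) ((g : M →ₗ[k] M) - 1) := by
  have hs : MRV G ((σ : M →ₗ[k] M) - 1) := mem_minimalQuadraticElements_iff.1 hσ
  constructor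
  · intro hg
    unfold sameActionSubgroup at hg
    induction hg using Subgroup.closure_induction with
    | mem τ hτ =>
      rw [mem_sameActionClass_iff] at hτ
      exact ⟨hτ.1.1, Or.inr hτ.2⟩
    | one => rw [Units.val_one, sub_self]; exact IsES_zero
    | mul x y _ _ hx hy =>
      have h1 : ((x * y : LinearMap.GeneralLinearGroup k M) : M →ₗ[k] M) - 1 =
          ((x : M →ₗ[k] M) - 1) + ((y : M →ₗ[k] M) - 1) + ((x : M →ₗ[k] M) - 1) * ((y : M →ₗ[k] M) - 1) := by
        rw [Units.val_mul]; noncomm_ring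
      rw [h1, IsES_mul hs.1 hx hy, add_zero]
      exact IsES_add hs hx hy
    | inv x _ hx =>
      have h1 : ((x⁻¹ : LinearMap.GeneralLinearGroup k M) : M →ₗ[k] M) - 1 = -((x : M →ₗ[k] M) - 1) := by
        have h2 : tv ((x : M →ₗ[k] M) - 1) hx.1.1 = x := Units.ext (by rw [tv_val]; abel)
        have h3 : ((x⁻¹ : LinearMap.GeneralLinearGroup k M) : M →ₗ[k] M) = 1 - ((x : M →ₗ[k] M) - 1) := by
          conv_lhs => rw [← h2]
          rw [tv_inv_val]
        rw [h3]; abel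
      rw [h1]; exact IsES_neg hx
  · intro hg
    by_cases h0 : (g : M →ₗ[k] M) - 1 = 0
    · have : g = 1 := Units.ext (by rw [Units.val_one]; exact sub_eq_zero.1 h0)
      rw [this]; exact Subgroup.one_mem _
    · apply Subgroup.subset_closure
      rw [mem_sameActionClass_iff]
      exact ⟨IsES_MRV hs hg h0, hg.2.resolve_left h0⟩

theorem mem_sameActionSubgroup_iff' [FiniteDimensional k M] {s : M →ₗ[k] M} (hs : MRV G s)
    {g : LinearMap.GeneralLinearGroup k M} :
    g ∈ sameActionSubgroup G (tv s hs.1.1) ↔ IsES G s ((g : M →ₗ[k] M) - 1) := by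
  have hσ : tv s hs.1.1 ∈ minimalQuadraticElements G := by
    rw [mem_minimalQuadraticElements_iff, tv_val, add_sub_cancel_left]; exact hs
  rw [mem_sameActionSubgroup_iff hσ, tv_val, add_sub_cancel_left]

theorem mem_quadraticRootSubgroups_iff {A : Subgroup (LinearMap.GeneralLinearGroup k M)} :
    A ∈ quadraticRootSubgroups G ↔ ∃ (s : M →ₗ[k] M) (hs : MRV G s), A = sameActionSubgroup G (tv s hs.1.1) := by
  constructor
  · rintro ⟨σ, hσ, rfl⟩
    have hs := mem_minimalQuadraticElements_iff.1 hσ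
    refine ⟨_, hs, ?_⟩
    congr 1
    exact Units.ext (by rw [tv_val]; abel)
  · rintro ⟨s, hs, rfl⟩
    refine ⟨tv s hs.1.1, ?_, rfl⟩
    rw [mem_minimalQuadraticElements_iff, tv_val, add_sub_cancel_left]; exact hs

end Cfsg.Agent.H731
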