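/-
Theorem T1 for quadratic pairs (helper731): if `s` is a minimal root vector and `r` a root vector with `s r` nilpotent
then `s r s = 0`.
-/
import Cfsg.Agent.H731.QuadDefs
import Cfsg.Agent.H740.Quad

set_option autoImplicit false
open Cfsg

namespace Cfsg.Agent.H731

section ringfacts

variable {R : Type*} [Ring R] {s r : R}

theorem z_pow (hs : s * s = 0) (hr : r * r = 0) (n : ℕ) (hn : 1 ≤ n) : (s * r + r * s) ^ n = (s * r) ^ n + (r * s) ^ n := by
  induction n, hn using Nat.le_induction with
  | base => simp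
  | succ n hn ih =>
    rw [pow_succ, ih]
    obtain ⟨m, rfl⟩ : ∃ m, n = m + 1 := ⟨n - 1, by omega⟩
    have h1 : (s * r) ^ (m + 1) * (r * s) = 0 := by
      rw [pow_succ]
      calc (s * r) ^ m * (s * r) * (r * s) = (s * r) ^ m * (s * (r * r) * s) := by noncomm_ring
        _ = 0 := by rw [hr]; simp
    have h2 : (r * s) ^ (m + 1) * (s * r) = 0 := by
      rw [pow_succ]
      calc (r * s) ^ m * (r * s) * (s * r) = (r * s) ^ m * (r * (s * s) * r) := by noncomm_ring
        _ = 0 := by rw [hs]; simp
    rw [mul_add, add_mul, add_mul, h1, h2, ← pow_succ, ← pow_succ]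
    abel

theorem nilpotent_z_of_nilpotent_mul (hs : s * s = 0) (hr : r * r = 0) (h : IsNilpotent (s * r)) :
    IsNilpotent (s * r + r * s) := by
  obtain ⟨n, hn⟩ := h
  refine ⟨n + 1, ?_⟩
  rw [z_pow hs hr _ (by omega)]
  have h1 : (s * r) ^ (n + 1) = 0 := by rw [pow_succ, hn, zero_mul]
  have h2 : (r * s) ^ (n + 1) = 0 := by
    have : ∀ m : ℕ, (r * s) ^ (m + 1) = r * (s * r) ^ m * s := by
      intro m
      induction m with
      | zero => simp
      | succ m ih => rw [pow_succ, ih, pow_succ]; noncomm_ring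
    rw [this, hn, mul_zero, zero_mul]
  rw [h1, h2, add_zero]

theorem nilpotent_mul_of_nilpotent_z (hs : s * s = 0) (hr : r * r = 0) (h : IsNilpotent (s * r + r * s)) :
    IsNilpotent (s * r) := by
  obtain ⟨n, hn⟩ := h
  rcases Nat.eq_zero_or_pos n with h0 | h0
  · subst h0
    rw [pow_zero] at hn
    exact ⟨0, by rw [pow_zero, hn]⟩
  · refine ⟨n + 1, ?_⟩
    have h1 : (s * r + r * s) ^ n * (s * r) = (s * r) ^ (n + 1) := by
      rw [z_pow hs hr n h0, add_mul, ← pow_succ]
      obtain ⟨m, rfl⟩ : ∃ m, n = m + 1 := ⟨n - 1, by omega⟩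
      have h2 : (r * s) ^ (m + 1) * (s * r) = 0 := by
        rw [pow_succ]
        calc (r * s) ^ m * (r * s) * (s * r) = (r * s) ^ m * (r * (s * s) * r) := by noncomm_ring
          _ = 0 := by rw [hs]; simp
      rw [h2, add_zero]
    rw [← h1, hn, zero_mul]

/-- `z = sr + rs` for the pair `(s, s^r)` is `-z²`. -/
theorem z_conj (hs : s * s = 0) (hr : r * r = 0) :
    s * (s + (r * s - s * r) - r * s * r) + (s + (r * s - s * r) - r * s * r) * s = -((s * r + r * s) ^ 2) := by
  have e : s * (s + (r * s - s * r) - r * s * r) + (s + (r * s - s * r) - r * s * r) * s =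
      (s * s + s * s + r * (s * s) - (s * s) * r) - (s * r * s * r + r * s * r * s) := by noncomm_ring
  have e2 : (s * r + r * s) ^ 2 = s * r * s * r + s * (r * r) * s + r * (s * s) * r + r * s * r * s := by
    noncomm_ring
  rw [e, e2, hs, hr]
  simp

theorem sss_conj (hs : s * s = 0) :
    s * (s + (r * s - s * r) - r * s * r) * s = -(s * r * s * r * s) := by
  have e : s * (s + (r * s - s * r) - r * s * r) * s =
      s * s * s + s * r * (s * s) - (s * s) * r * s - s * r * s * r * s := by noncomm_ring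
  rw [e, hs]; simp

end ringfacts

variable {k : Type*} [Field k] {M : Type*} [AddCommGroup M] [Module k M]
variable {G : Subgroup (LinearMap.GeneralLinearGroup k M)}

/-- The case `s r s r s = 0`. -/
theorem T1_aux [FiniteDimensional k M] (hk : ringChar k ≠ 2) {s r : M →ₗ[k] M} (hs : MRV G s) (hr : RV G r)
    (h5 : s * r * s * r * s = 0) : s * r * s = 0 := by
  have hss := hs.1.1
  have hrr := hr.1
  have h2 : (2 : k) ≠ 0 := Ring.two_ne_zero hk
  set u := s * r * s with hu
  set v := r * s * r * s - s * r * s * r with hv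
  have su : s * u = 0 := by rw [hu]; calc s * (s * r * s) = (s * s) * r * s := by noncomm_ring
    _ = 0 := by rw [hss]; simp
  have us : u * s = 0 := by rw [hu]; calc (s * r * s) * s = s * r * (s * s) := by noncomm_ring
    _ = 0 := by rw [hss]; simp
  have uu : u * u = 0 := by
    rw [hu]; calc (s * r * s) * (s * r * s) = s * r * (s * s) * r * s := by noncomm_ring
    _ = 0 := by rw [hss]; simp
  have sv : s * v = 0 := by
    rw [hv]; calc s * (r * s * r * s - s * r * s * r) = s * r * s * r * s - (s * s) * r * s * r := by noncomm_ring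
    _ = 0 := by rw [hss, h5]; simp
  have vs : v * s = 0 := by
    rw [hv]; calc (r * s * r * s - s * r * s * r) * s = r * s * r * (s * s) - s * r * s * r * s := by noncomm_ring
    _ = 0 := by rw [hss, h5]; simp
  have uv : u * v = 0 := by
    rw [hu]; calc s * r * s * v = s * r * (s * v) := by noncomm_ring
    _ = 0 := by rw [sv]; simp
  have vu : v * u = 0 := by
    rw [hu]; calc v * (s * r * s) = (v * s) * r * s := by noncomm_ring
    _ = 0 := by rw [vs]; simp
  have vv : v * v = 0 := by
    have e : v * v = r * s * r * (s * v) - s * r * (s * r * v) := by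
      conv_lhs => rw [hv]
      conv_rhs => rw [hv]
      noncomm_ring
    have e2 : s * r * v = s * (r * r) * s * r * s - s * r * s * r * s * r := by
      rw [hv]; noncomm_ring
    rw [e, sv, e2, hrr, h5]; simp
  -- the elements `s_b`
  have key : ∀ b : k, RV G (s - (2 * b) • u - (b ^ 2) • v) := by
    intro b
    have hbr : RV G (b • r) := RV_smul hr b
    have hsb : RV G (cj (tv (b • r) (smul_sq hr.1 b)) s) := RV_cj hs.1 (RV_mem hr b)
    set sb := cj (tv (b • r) (smul_sq hr.1 b)) s with hsbdef
    have esb : sb = s + b • (r * s - s * r) - (b ^ 2) • (r * s * r) := by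
      rw [hsbdef, cj_tv]
      simp only [smul_mul_assoc, mul_smul_comm, smul_smul, smul_sub, pow_two]
    have e1 : sb * s - s * sb = -((2 * b) • u) - (b ^ 2) • v := by
      have e2 : sb * s = s * s + b • (r * (s * s) - s * r * s) - (b ^ 2) • (r * s * r * s) := by
        rw [esb]
        simp only [sub_mul, add_mul, smul_mul_assoc, mul_assoc]
      have e3 : s * sb = s * s + b • (s * r * s - (s * s) * r) - (b ^ 2) • (s * r * s * r) := by
        rw [esb]
        simp only [mul_sub, mul_add, mul_smul_comm, mul_assoc]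
      rw [e2, e3, hss, hu, hv]
      simp only [mul_zero, zero_mul, zero_sub, sub_zero, smul_neg, smul_sub, mul_smul, two_smul, zero_add,
        mul_assoc]
      abel
    have e4 : s * sb * s = 0 := by
      have e5 : s * sb * s = (s * s) * s + b • (s * r * (s * s) - (s * s) * r * s) - (b ^ 2) • (s * r * s * r * s) := by
        rw [esb]
        simp only [mul_sub, mul_add, mul_smul_comm, smul_mul_assoc, sub_mul, add_mul, mul_assoc]
      rw [e5, hss, h5]; simp
    have e6 : sb * s * sb = 0 := by
      -- conjugate of `s * s_{-b} * s`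
      set g := tv (b • r) (smul_sq hr.1 b) with hg
      have e5 : s * cj g⁻¹ s * s = 0 := by
        have e7 : cj g⁻¹ s = (1 - b • r) * s * (1 + b • r) := by
          unfold cj; rw [inv_inv]; rfl
        rw [e7]
        have e8 : s * ((1 - b • r) * s * (1 + b • r)) * s =
            (s * s) * s + b • ((s * s) * r * s) - b • (s * r * (s * s)) - (b * b) • (s * r * s * r * s) := by
          simp only [mul_sub, mul_add, mul_smul_comm, smul_mul_assoc, sub_mul, add_mul, mul_assoc, one_mul, mul_one,
            smul_sub, smul_add, smul_smul]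
          abel
        rw [e8, hss, h5]; simp
      have e9 : cj g (s * cj g⁻¹ s * s) = sb * s * sb := by
        rw [cj_mul, cj_mul, cj_cj_inv]
      rw [← e9, e5, cj_zero]
    have hcj : RV G (cj (tv sb hsb.1) s) := RV_cj hs.1 (RV_mem_one hsb)
    rw [cj_tv, e6, sub_zero, e1] at hcj
    have : s + (-((2 * b) • u) - (b ^ 2) • v) = s - (2 * b) • u - (b ^ 2) • v := by abel
    rwa [this] at hcj
  have k1 := key 1
  have k2 := key (-1)
  have prod : ∀ a b c d : k, (s + a • u + b • v) * (s + c • u + d • v) = 0 := by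
    intro a b c d
    simp only [mul_add, add_mul, smul_mul_assoc, mul_smul_comm, hss, su, us, uu, sv, vs, uv, vu, vv, smul_zero,
      add_zero]
  have f1 : s - (2 * (1 : k)) • u - ((1 : k) ^ 2) • v = s + (-2 : k) • u + (-1 : k) • v := by
    rw [mul_one, one_pow, neg_smul, neg_smul]; abel
  have f2 : s - (2 * (-1 : k)) • u - ((-1 : k) ^ 2) • v = s + (2 : k) • u + (-1 : k) • v := by
    rw [mul_neg, mul_one, neg_smul, neg_smul]; simp [sub_eq_add_neg]
  rw [f1] at k1
  rw [f2] at k2
  have k3 := RV_sub k1 k2 (prod _ _ _ _) (prod _ _ _ _)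
  have f3 : s + (-2 : k) • u + (-1 : k) • v - (s + (2 : k) • u + (-1 : k) • v) = (-4 : k) • u := by
    have : (-4 : k) • u = (-2 : k) • u - (2 : k) • u := by rw [← sub_smul]; norm_num
    rw [this]; abel
  rw [f3] at k3
  have h4 : (-4 : k) ≠ 0 := by
    have : (-4 : k) = -(2 * 2) := by norm_num
    rw [this]; exact neg_ne_zero.2 (mul_ne_zero h2 h2)
  have k4 : RV G u := by
    have := RV_smul k3 (-4 : k)⁻¹
    rwa [smul_smul, inv_mul_cancel₀ h4, one_smul] at this
  apply MRV_eq_zero_of_lt hs k4
  by_contra hlt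
  push Not at hlt
  have hle : LinearMap.range u ≤ LinearMap.range s := by
    rintro _ ⟨w, rfl⟩
    exact ⟨r (s w), rfl⟩
  have heq : LinearMap.range u = LinearMap.range s := Submodule.eq_of_le_of_finrank_le hle hlt
  apply hs.2.1
  ext w
  rw [LinearMap.zero_apply]
  have h1 : s w ∈ LinearMap.range u := by rw [heq]; exact ⟨w, rfl⟩
  obtain ⟨w1, hw1⟩ := h1
  have h3 : s w1 ∈ LinearMap.range u := by rw [heq]; exact ⟨w1, rfl⟩
  obtain ⟨w2, hw2⟩ := h3
  have e1 : u w1 = s (r (s w1)) := rfl
  have e2 : s w1 = s (r (s w2)) := hw2.symm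
  have e3 : s w = (s * r * s * r * s) w2 := by
    rw [← hw1, e1, e2]; rfl
  rw [e3, h5, LinearMap.zero_apply]

theorem T1_z [FiniteDimensional k M] (hk : ringChar k ≠ 2) (n : ℕ) : ∀ {s r : M →ₗ[k] M}, MRV G s → RV G r →
    (s * r + r * s) ^ n = 0 → s * r * s = 0 := by
  induction n using Nat.strong_induction_on with
  | _ n ih =>
    intro s r hs hr hn
    have hss := hs.1.1
    have hrr := hr.1
    rcases Nat.lt_or_ge n 2 with h | h
    · -- n = 0 or 1 : z = 0
      have hz : s * r + r * s = 0 := by
        interval_cases n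
        · rw [pow_zero] at hn
          calc s * r + r * s = (s * r + r * s) * 1 := by rw [mul_one]
            _ = 0 := by rw [hn, mul_zero]
        · rwa [pow_one] at hn
      calc s * r * s = (s * r + r * s) * s - r * (s * s) := by noncomm_ring
        _ = 0 := by rw [hz, hss]; simp
    · have hs' : MRV G (cj (tv r hr.1) s) := MRV_cj hs (RV_mem_one hr)
      have hz := z_conj hss hrr
      rw [← cj_tv r hr.1 s] at hz
      have h3 := ih ((n + 1) / 2) (by omega) hs hs'.1 (by
        rw [hz, neg_pow, ← pow_mul]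
        have : (s * r + r * s) ^ (2 * ((n + 1) / 2)) = (s * r + r * s) ^ n * (s * r + r * s) ^ (2 * ((n + 1) / 2) - n) := by
          rw [← pow_add]; congr 1; omega
        rw [this, hn]; simp)
      rw [cj_tv, sss_conj hss, neg_eq_zero] at h3
      exact T1_aux hk hs hr h3

/-- **T1**: `s` minimal, `r` a root vector, `s r` nilpotent implies `s r s = 0`. -/
theorem T1' [FiniteDimensional k M] (hk : ringChar k ≠ 2) {s r : M →ₗ[k] M} (hs : MRV G s) (hr : RV G r)
    (hn : IsNilpotent (s * r)) : s * r * s = 0 := by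
  obtain ⟨n, hn⟩ := nilpotent_z_of_nilpotent_mul hs.1.1 hr.1 hn
  exact T1_z hk n hs hr hn

/-- **T1** in terms of `H740.QIn`, `H740.IsMin`. -/
theorem T1 [FiniteDimensional k M] (hk2 : ringChar k ≠ 2) {s r : M →ₗ[k] M} (hs : H740.IsMin G s)
    (hr : H740.QIn G r) (hn : IsNilpotent (s * r)) : s * r * s = 0 :=
  T1' hk2 hs hr hn

end Cfsg.Agent.H731
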