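/-
Words in a pair of root vectors (helper731): elements of the group generated by `1 + c s`, `1 + c r` are given by
elements of `SL₂(k[X])` evaluated at `z = s r + r s`.
-/
import Cfsg.Agent.H731.QuadT1
import Cfsg.Agent.H731.QuadL1

set_option autoImplicit false
open Cfsg Polynomial

namespace Cfsg.Agent.H731

section ringfacts

variable {E : Type*} [Ring E] {s r : E}

theorem word_mul (hs : s * s = 0) (hr : r * r = 0) {A B C D A' B' C' D' : E}
    (sA : s * A' = A' * s) (sB : s * B' = B' * s) (sC : s * C' = C' * s) (sD : s * D' = D' * s)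
    (rA : r * A' = A' * r) (rB : r * B' = B' * r) (rC : r * C' = C' * r) (rD : r * D' = D' * r) :
    (1 + A * (s * r) + B * s + C * r + D * (r * s)) * (1 + A' * (s * r) + B' * s + C' * r + D' * (r * s)) =
      1 + (A + A' + A * A' * (s * r + r * s) + B * C') * (s * r) + (B + B' + A * B' * (s * r + r * s) +
        B * D' * (s * r + r * s)) * s + (C + C' + C * A' * (s * r + r * s) + D * C' * (s * r + r * s)) * r +
        (D + D' + C * B' + D * D' * (s * r + r * s)) * (r * s) := by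
  have ss : ∀ x, s * (s * x) = 0 := fun x => by rw [← mul_assoc, hs, zero_mul]
  have rr : ∀ x, r * (r * x) = 0 := fun x => by rw [← mul_assoc, hr, zero_mul]
  have sA' : ∀ x, s * (A' * x) = A' * (s * x) := fun x => by rw [← mul_assoc, sA, mul_assoc]
  have sB' : ∀ x, s * (B' * x) = B' * (s * x) := fun x => by rw [← mul_assoc, sB, mul_assoc]
  have sC' : ∀ x, s * (C' * x) = C' * (s * x) := fun x => by rw [← mul_assoc, sC, mul_assoc]
  have sD' : ∀ x, s * (D' * x) = D' * (s * x) := fun x => by rw [← mul_assoc, sD, mul_assoc]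
  have rA' : ∀ x, r * (A' * x) = A' * (r * x) := fun x => by rw [← mul_assoc, rA, mul_assoc]
  have rB' : ∀ x, r * (B' * x) = B' * (r * x) := fun x => by rw [← mul_assoc, rB, mul_assoc]
  have rC' : ∀ x, r * (C' * x) = C' * (r * x) := fun x => by rw [← mul_assoc, rC, mul_assoc]
  have rD' : ∀ x, r * (D' * x) = D' * (r * x) := fun x => by rw [← mul_assoc, rD, mul_assoc]
  simp only [mul_add, add_mul, mul_assoc, one_mul, mul_one, hs, hr, ss, rr, sA', sB', sC', sD', rA', rB', rC', rD',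
    mul_zero, add_zero, zero_add]
  abel

/-- conjugating `s` by a word -/
theorem word_conj_s (hs : s * s = 0) (hr : r * r = 0) {A B C D B' C' P : E}
    (sA : s * A = A * s) (sC : s * C = C * s) (sD : s * D = D * s) (sB' : s * B' = B' * s) (sC' : s * C' = C' * s)
    (rA : r * A = A * r) (rC : r * C = C * r) (rD : r * D = D * r) (rB' : r * B' = B' * r) (rC' : r * C' = C' * r)
    (AC : A * C = C * A)
    (hP : P = 1 + A * (s * r + r * s)) (hC' : C' = -C) :
    (1 + A * (s * r) + B * s + C * r + D * (r * s)) * s * (1 + D * (s * r) + B' * s + C' * r + A * (r * s)) =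
      P * P * s + P * C * (r * s - s * r) - C * C * (s * r + r * s) * r := by
  subst hC'
  subst hP
  have ss : ∀ x, s * (s * x) = 0 := fun x => by rw [← mul_assoc, hs, zero_mul]
  have rr : ∀ x, r * (r * x) = 0 := fun x => by rw [← mul_assoc, hr, zero_mul]
  have sA2 : ∀ x, s * (A * x) = A * (s * x) := fun x => by rw [← mul_assoc, sA, mul_assoc]
  have sC2 : ∀ x, s * (C * x) = C * (s * x) := fun x => by rw [← mul_assoc, sC, mul_assoc]
  have sD2 : ∀ x, s * (D * x) = D * (s * x) := fun x => by rw [← mul_assoc, sD, mul_assoc]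
  have sB2 : ∀ x, s * (B' * x) = B' * (s * x) := fun x => by rw [← mul_assoc, sB', mul_assoc]
  have rA2 : ∀ x, r * (A * x) = A * (r * x) := fun x => by rw [← mul_assoc, rA, mul_assoc]
  have rC2 : ∀ x, r * (C * x) = C * (r * x) := fun x => by rw [← mul_assoc, rC, mul_assoc]
  have rD2 : ∀ x, r * (D * x) = D * (r * x) := fun x => by rw [← mul_assoc, rD, mul_assoc]
  have rB2 : ∀ x, r * (B' * x) = B' * (r * x) := fun x => by rw [← mul_assoc, rB', mul_assoc]
  have AC2 : ∀ x, A * (C * x) = C * (A * x) := fun x => by rw [← mul_assoc, AC, mul_assoc]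
  simp only [mul_add, add_mul, mul_sub, sub_mul, mul_assoc, one_mul, mul_one, hs, hr, ss, rr, sA2, sB2, sC2, sD2,
    rA2, rB2, rC2, rD2, AC2, mul_neg, neg_mul,
    mul_zero, add_zero, zero_add, sub_zero, zero_sub, neg_zero]
  abel

end ringfacts

variable {k : Type*} [Field k] {M : Type*} [AddCommGroup M] [Module k M]

/-- `z = s r + r s`. -/
def zz (s r : M →ₗ[k] M) : M →ₗ[k] M := s * r + r * s

/-- Evaluation of polynomials at `z`. -/
noncomputable def ev (s r : M →ₗ[k] M) : k[X] →ₐ[k] Module.End k M := Polynomial.aeval (R := k) (A := Module.End k M) (zz s r)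

theorem ev_X (s r : M →ₗ[k] M) : ev s r X = zz s r := by unfold ev; rw [aeval_X]

theorem ev_C (s r : M →ₗ[k] M) (c : k) : ev s r (C c) = c • (1 : Module.End k M) := by
  unfold ev; rw [aeval_C, Algebra.algebraMap_eq_smul_one]

theorem commute_aeval {z y : Module.End k M} (h : Commute y z) (p : k[X]) : Commute y (aeval z p) := by
  induction p using Polynomial.induction_on' with
  | add p q hp hq => rw [map_add]; exact hp.add_right hq
  | monomial n a =>
    rw [aeval_monomial]
    exact (Algebra.commute_algebraMap_right a y).mul_right (h.pow_right n)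

theorem s_zz {s r : M →ₗ[k] M} (hs : s * s = 0) : s * zz s r = zz s r * s := by
  unfold zz
  calc s * (s * r + r * s) = (s * s) * r + s * r * s := by noncomm_ring
    _ = s * r * s + r * (s * s) := by rw [hs]; simp
    _ = _ := by noncomm_ring

theorem r_zz {s r : M →ₗ[k] M} (hr : r * r = 0) : r * zz s r = zz s r * r := by
  unfold zz
  calc r * (s * r + r * s) = (r * r) * s + r * s * r := by noncomm_ring
    _ = r * s * r + s * (r * r) := by rw [hr]; simp
    _ = _ := by noncomm_ring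

theorem s_ev {s r : M →ₗ[k] M} (hs : s * s = 0) (p : k[X]) : s * ev s r p = ev s r p * s :=
  commute_aeval (y := s) (z := zz s r) (s_zz hs) p

theorem r_ev {s r : M →ₗ[k] M} (hr : r * r = 0) (p : k[X]) : r * ev s r p = ev s r p * r :=
  commute_aeval (y := r) (z := zz s r) (r_zz hr) p

theorem ev_comm (s r : M →ₗ[k] M) (p q : k[X]) : ev s r p * ev s r q = ev s r q * ev s r p := by
  rw [← map_mul, ← map_mul, mul_comm]

theorem zz_swap (s r : M →ₗ[k] M) : zz r s = zz s r := by unfold zz; rw [add_comm]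

theorem ev_swap (s r : M →ₗ[k] M) : ev r s = ev s r := by unfold ev; rw [zz_swap]

/-- `x = (matrix, element of GL(M))` is a word with parameters `a b c d`. -/
def Wd (s r : M →ₗ[k] M) (x : Matrix.SpecialLinearGroup (Fin 2) k[X] × LinearMap.GeneralLinearGroup k M)
    (a b c d : k[X]) : Prop :=
  (x.1 : Matrix (Fin 2) (Fin 2) k[X]) 0 0 = 1 + a * X ∧ (x.1 : Matrix (Fin 2) (Fin 2) k[X]) 0 1 = b ∧
  (x.1 : Matrix (Fin 2) (Fin 2) k[X]) 1 0 = c * X ∧ (x.1 : Matrix (Fin 2) (Fin 2) k[X]) 1 1 = 1 + d * X ∧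
  (x.2 : M →ₗ[k] M) = 1 + ev s r a * (s * r) + ev s r b * s + ev s r c * r + ev s r d * (r * s)

theorem Wd_one (s r : M →ₗ[k] M) : Wd s r 1 0 0 0 0 := by
  refine ⟨?_, ?_, ?_, ?_, ?_⟩
  · rw [Prod.fst_one, oneR_00]; ring
  · rw [Prod.fst_one, oneR_01]
  · rw [Prod.fst_one, oneR_10]; ring
  · rw [Prod.fst_one, oneR_11]; ring
  · rw [Prod.snd_one, Units.val_one, map_zero]; simp

theorem Wd_mul {s r : M →ₗ[k] M} (hs : s * s = 0) (hr : r * r = 0)
    {x y : Matrix.SpecialLinearGroup (Fin 2) k[X] × LinearMap.GeneralLinearGroup k M} {a b c d a' b' c' d' : k[X]}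
    (hx : Wd s r x a b c d) (hy : Wd s r y a' b' c' d') :
    Wd s r (x * y) (a + a' + a * a' * X + b * c') (b + b' + a * b' * X + b * d' * X)
      (c + c' + c * a' * X + d * c' * X) (d + d' + c * b' + d * d' * X) := by
  obtain ⟨x1, x2, x3, x4, x5⟩ := hx
  obtain ⟨y1, y2, y3, y4, y5⟩ := hy
  refine ⟨?_, ?_, ?_, ?_, ?_⟩
  · rw [Prod.fst_mul, slR_mul, x1, x2, y1, y3]; ring
  · rw [Prod.fst_mul, slR_mul, x1, x2, y2, y4]; ring
  · rw [Prod.fst_mul, slR_mul, x3, x4, y1, y3]; ring
  · rw [Prod.fst_mul, slR_mul, x3, x4, y2, y4]; ring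
  · rw [Prod.snd_mul, Units.val_mul, x5, y5, word_mul hs hr (s_ev hs _) (s_ev hs _) (s_ev hs _) (s_ev hs _)
      (r_ev hr _) (r_ev hr _) (r_ev hr _) (r_ev hr _)]
    simp only [map_add, map_mul, ev_X, zz]

theorem Wd_inv {s r : M →ₗ[k] M} (hs : s * s = 0) (hr : r * r = 0)
    {x : Matrix.SpecialLinearGroup (Fin 2) k[X] × LinearMap.GeneralLinearGroup k M} {a b c d : k[X]}
    (hx : Wd s r x a b c d) : Wd s r x⁻¹ d (-b) (-c) a := by
  have hx' := hx
  obtain ⟨x1, x2, x3, x4, x5⟩ := hx'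
  have hdet := slR_det x.1
  rw [x1, x2, x3, x4] at hdet
  have hd : a + d + a * d * X - b * c = 0 := by
    have h1 : (a + d + a * d * X - b * c) * X = 0 := by linear_combination hdet
    exact (mul_eq_zero.1 h1).resolve_right X_ne_zero
  refine ⟨?_, ?_, ?_, ?_, ?_⟩
  · rw [Prod.fst_inv, slR_inv00, x4]
  · rw [Prod.fst_inv, slR_inv01, x2]
  · rw [Prod.fst_inv, slR_inv10, x3]; ring
  · rw [Prod.fst_inv, slR_inv11, x1]
  · rw [Prod.snd_inv]
    have h1 : (x.2 : M →ₗ[k] M) * (1 + ev s r d * (s * r) + ev s r (-b) * s + ev s r (-c) * r + ev s r a * (r * s)) = 1 := by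
      rw [x5, word_mul hs hr (s_ev hs _) (s_ev hs _) (s_ev hs _) (s_ev hs _)
        (r_ev hr _) (r_ev hr _) (r_ev hr _) (r_ev hr _)]
      have e1 : ev s r a + ev s r d + ev s r a * ev s r d * (s * r + r * s) + ev s r b * ev s r (-c) = 0 := by
        have : ev s r (a + d + a * d * X - b * c) = 0 := by rw [hd, map_zero]
        simp only [map_add, map_mul, map_sub, ev_X, zz] at this
        rw [map_neg, mul_neg, ← sub_eq_add_neg]; exact this
      have e2 : ev s r b + ev s r (-b) + ev s r a * ev s r (-b) * (s * r + r * s) +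
          ev s r b * ev s r a * (s * r + r * s) = 0 := by
        have : ev s r (b + (-b) + a * (-b) * X + b * a * X) = 0 := by
          have h0 : (b + (-b) + a * (-b) * X + b * a * X) = 0 := by ring
          rw [h0, map_zero]
        simpa only [map_add, map_mul, map_sub, ev_X, zz] using this
      have e3 : ev s r c + ev s r (-c) + ev s r c * ev s r d * (s * r + r * s) +
          ev s r d * ev s r (-c) * (s * r + r * s) = 0 := by
        have : ev s r (c + (-c) + c * d * X + d * (-c) * X) = 0 := by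
          have h0 : (c + (-c) + c * d * X + d * (-c) * X) = 0 := by ring
          rw [h0, map_zero]
        simpa only [map_add, map_mul, map_sub, ev_X, zz] using this
      have e4 : ev s r d + ev s r a + ev s r c * ev s r (-b) + ev s r d * ev s r a * (s * r + r * s) = 0 := by
        have : ev s r (d + a + c * (-b) + d * a * X) = 0 := by
          have h0 : (d + a + c * (-b) + d * a * X) = 0 := by linear_combination hd
          rw [h0, map_zero]
        simpa only [map_add, map_mul, map_sub, ev_X, zz] using this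
      rw [e1, e2, e3, e4]; simp
    calc ((x.2⁻¹ : LinearMap.GeneralLinearGroup k M) : M →ₗ[k] M)
        = ((x.2⁻¹ : LinearMap.GeneralLinearGroup k M) : M →ₗ[k] M) * ((x.2 : M →ₗ[k] M) *
          (1 + ev s r d * (s * r) + ev s r (-b) * s + ev s r (-c) * r + ev s r a * (r * s))) := by rw [h1, mul_one]
      _ = _ := by rw [← mul_assoc, Units.inv_mul, one_mul]

/-- The group of words. -/
noncomputable def TT (s r : M →ₗ[k] M) (hs : s * s = 0) (hr : r * r = 0) :
    Subgroup (Matrix.SpecialLinearGroup (Fin 2) k[X] × LinearMap.GeneralLinearGroup k M) :=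
  Subgroup.closure ({x | ∃ c : k, x = (upR (C c), tv (c • s) (smul_sq hs c))} ∪
    {x | ∃ c : k, x = (loR (C c * X), tv (c • r) (smul_sq hr c))})

theorem TT_up {s r : M →ₗ[k] M} (hs : s * s = 0) (hr : r * r = 0) (c : k) :
    (upR (C c), tv (c • s) (smul_sq hs c)) ∈ TT s r hs hr := Subgroup.subset_closure (Or.inl ⟨c, rfl⟩)

theorem TT_lo {s r : M →ₗ[k] M} (hs : s * s = 0) (hr : r * r = 0) (c : k) :
    (loR (C c * X), tv (c • r) (smul_sq hr c)) ∈ TT s r hs hr := Subgroup.subset_closure (Or.inr ⟨c, rfl⟩)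

theorem Wd_up {s r : M →ₗ[k] M} (hs : s * s = 0) (c : k) :
    Wd s r (upR (C c), tv (c • s) (smul_sq hs c)) 0 (C c) 0 0 := by
  refine ⟨?_, ?_, ?_, ?_, ?_⟩
  · change (upR (C c) : Matrix (Fin 2) (Fin 2) k[X]) 0 0 = _
    rw [upR_00]; ring
  · change (upR (C c) : Matrix (Fin 2) (Fin 2) k[X]) 0 1 = _
    rw [upR_01]
  · change (upR (C c) : Matrix (Fin 2) (Fin 2) k[X]) 1 0 = _
    rw [upR_10]; ring
  · change (upR (C c) : Matrix (Fin 2) (Fin 2) k[X]) 1 1 = _
    rw [upR_11]; ring
  · change (tv (c • s) (smul_sq hs c) : M →ₗ[k] M) = _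
    rw [tv_val, map_zero, ev_C, smul_mul_assoc, one_mul]; simp

theorem Wd_lo {s r : M →ₗ[k] M} (hr : r * r = 0) (c : k) :
    Wd s r (loR (C c * X), tv (c • r) (smul_sq hr c)) 0 0 (C c) 0 := by
  refine ⟨?_, ?_, ?_, ?_, ?_⟩
  · change (loR (C c * X) : Matrix (Fin 2) (Fin 2) k[X]) 0 0 = _
    rw [loR_00]; ring
  · change (loR (C c * X) : Matrix (Fin 2) (Fin 2) k[X]) 0 1 = _
    rw [loR_01]
  · change (loR (C c * X) : Matrix (Fin 2) (Fin 2) k[X]) 1 0 = _
    rw [loR_10]
  · change (loR (C c * X) : Matrix (Fin 2) (Fin 2) k[X]) 1 1 = _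
    rw [loR_11]; ring
  · change (tv (c • r) (smul_sq hr c) : M →ₗ[k] M) = _
    rw [tv_val, map_zero, ev_C, smul_mul_assoc, one_mul]; simp

theorem TT_Wd {s r : M →ₗ[k] M} (hs : s * s = 0) (hr : r * r = 0)
    {x : Matrix.SpecialLinearGroup (Fin 2) k[X] × LinearMap.GeneralLinearGroup k M} (hx : x ∈ TT s r hs hr) :
    ∃ a b c d, Wd s r x a b c d := by
  unfold TT at hx
  induction hx using Subgroup.closure_induction with
  | mem x hx =>
    rcases hx with ⟨c, rfl⟩ | ⟨c, rfl⟩
    · exact ⟨_, _, _, _, Wd_up hs c⟩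
    · exact ⟨_, _, _, _, Wd_lo hr c⟩
  | one => exact ⟨_, _, _, _, Wd_one s r⟩
  | mul x y _ _ hx hy =>
    obtain ⟨a, b, c, d, hx⟩ := hx
    obtain ⟨a', b', c', d', hy⟩ := hy
    exact ⟨_, _, _, _, Wd_mul hs hr hx hy⟩
  | inv x _ hx =>
    obtain ⟨a, b, c, d, hx⟩ := hx
    exact ⟨_, _, _, _, Wd_inv hs hr hx⟩

theorem TT_mem {G : Subgroup (LinearMap.GeneralLinearGroup k M)} {s r : M →ₗ[k] M} (hs : RV G s) (hr : RV G r)
    {x : Matrix.SpecialLinearGroup (Fin 2) k[X] × LinearMap.GeneralLinearGroup k M} (hx : x ∈ TT s r hs.1 hr.1) :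
    x.2 ∈ G := by
  unfold TT at hx
  induction hx using Subgroup.closure_induction with
  | mem x hx =>
    rcases hx with ⟨c, rfl⟩ | ⟨c, rfl⟩
    · exact RV_mem hs c
    · exact RV_mem hr c
  | one => exact G.one_mem
  | mul x y _ _ hx hy => rw [Prod.snd_mul]; exact G.mul_mem hx hy
  | inv x _ hx => rw [Prod.snd_inv]; exact G.inv_mem hx

/-- the conjugate of `s` by a word -/
theorem Wd_cj_s {s r : M →ₗ[k] M} (hs : s * s = 0) (hr : r * r = 0)
    {x : Matrix.SpecialLinearGroup (Fin 2) k[X] × LinearMap.GeneralLinearGroup k M} {a b c d : k[X]}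
    (hx : Wd s r x a b c d) : cj x.2 s = ev s r ((1 + a * X) ^ 2) * s + ev s r ((1 + a * X) * c) * (r * s - s * r) -
      ev s r (c ^ 2 * X) * r := by
  have hi := Wd_inv hs hr hx
  have h1 := hx.2.2.2.2
  have h2 := hi.2.2.2.2
  rw [Prod.snd_inv] at h2
  unfold cj
  rw [h1, h2]
  have e := word_conj_s (s := s) (r := r) hs hr (A := ev s r a) (B := ev s r b) (C := ev s r c) (D := ev s r d)
    (B' := ev s r (-b)) (C' := ev s r (-c)) (P := ev s r (1 + a * X)) (s_ev hs _) (s_ev hs _) (s_ev hs _) (s_ev hs _)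
    (s_ev hs _) (r_ev hr _) (r_ev hr _) (r_ev hr _) (r_ev hr _) (r_ev hr _) (ev_comm s r _ _)
    (by rw [map_add, map_one, map_mul, ev_X]; rfl) (by rw [map_neg])
  rw [e]
  have f1 : ev s r ((1 + a * X) ^ 2) = ev s r (1 + a * X) * ev s r (1 + a * X) := by rw [pow_two, map_mul]
  have f2 : ev s r ((1 + a * X) * c) = ev s r (1 + a * X) * ev s r c := by rw [map_mul]
  have f3 : ev s r (c ^ 2 * X) = ev s r c * ev s r c * (s * r + r * s) := by rw [pow_two, map_mul, map_mul, ev_X]; rfl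
  rw [f1, f2, f3]

/-- the swapped word -/
theorem Wd_swap {s r : M →ₗ[k] M}
    {x : Matrix.SpecialLinearGroup (Fin 2) k[X] × LinearMap.GeneralLinearGroup k M} {a b c d : k[X]}
    (hx : Wd s r x a b c d) {m : Matrix.SpecialLinearGroup (Fin 2) k[X]}
    (m00 : (m : Matrix (Fin 2) (Fin 2) k[X]) 0 0 = 1 + d * X) (m01 : (m : Matrix (Fin 2) (Fin 2) k[X]) 0 1 = c)
    (m10 : (m : Matrix (Fin 2) (Fin 2) k[X]) 1 0 = b * X) (m11 : (m : Matrix (Fin 2) (Fin 2) k[X]) 1 1 = 1 + a * X) :
    Wd r s (m, x.2) d c b a := by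
  refine ⟨m00, m01, m10, m11, ?_⟩
  change (x.2 : M →ₗ[k] M) = _
  rw [hx.2.2.2.2, ev_swap]; abel

/-- the conjugate of `r` by a word -/
theorem Wd_cj_r {s r : M →ₗ[k] M} (hs : s * s = 0) (hr : r * r = 0)
    {x : Matrix.SpecialLinearGroup (Fin 2) k[X] × LinearMap.GeneralLinearGroup k M} {a b c d : k[X]}
    (hx : Wd s r x a b c d) : cj x.2 r = ev s r ((1 + d * X) ^ 2) * r + ev s r ((1 + d * X) * b) * (s * r - r * s) -
      ev s r (b ^ 2 * X) * s := by
  have hdet := slR_det x.1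
  rw [hx.1, hx.2.1, hx.2.2.1, hx.2.2.2.1] at hdet
  let m : Matrix.SpecialLinearGroup (Fin 2) k[X] := ⟨!![1 + d * X, c; b * X, 1 + a * X], by
    rw [Matrix.det_fin_two_of]; linear_combination hdet⟩
  have h := Wd_cj_s hr hs (Wd_swap hx (m := m) rfl rfl rfl rfl)
  rw [ev_swap] at h
  exact h

end Cfsg.Agent.H731
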