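/-
Fitting idempotent, filtration and killing of the nilpotent part (helper731).
-/
import Cfsg.Agent.H731.QuadWords

set_option autoImplicit false
open Cfsg Polynomial

namespace Cfsg.Agent.H731

variable {k : Type*} [Field k] {M : Type*} [AddCommGroup M] [Module k M]

/-! ### The Fitting idempotent as a polynomial in `z` -/

/-- `E(z)` is the Fitting idempotent of `z`. -/
structure Fit (s r : M →ₗ[k] M) (E W : k[X]) (n : ℕ) : Prop where
  ee : ev s r E * ev s r E = ev s r E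
  nil : zz s r ^ n * (1 - ev s r E) = 0
  inv : ev s r W * zz s r * ev s r E = ev s r E

theorem exists_fit [FiniteDimensional k M] (s r : M →ₗ[k] M) : ∃ (E W : k[X]) (n : ℕ), Fit s r E W n := by
  have hint : IsIntegral k (zz s r : Module.End k M) := Algebra.IsIntegral.isIntegral _
  set p := minpoly k (zz s r : Module.End k M) with hpdef
  have hp0 : p ≠ 0 := minpoly.ne_zero hint
  have hp : ev s r p = 0 := minpoly.aeval k (zz s r : Module.End k M)
  obtain ⟨g, hg, hgd⟩ := Polynomial.exists_eq_pow_rootMultiplicity_mul_and_not_dvd p hp0 0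
  rw [C_0, sub_zero] at hg hgd
  set n := rootMultiplicity 0 p with hn
  have hcop : IsCoprime (X : k[X]) g := (Polynomial.prime_X.irreducible.coprime_iff_not_dvd).2 hgd
  obtain ⟨u, v, huv⟩ := hcop.pow_left (m := n)
  obtain ⟨u', v', huv'⟩ := hcop
  have key : ∀ q : k[X], ev s r (q * p) = 0 := fun q => by rw [map_mul, hp, mul_zero]
  refine ⟨u * X ^ n, u', n, ?_, ?_, ?_⟩
  · rw [← map_mul, ← sub_eq_zero, ← map_sub]
    have : u * X ^ n * (u * X ^ n) - u * X ^ n = (-(u * v)) * p := by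
      rw [hg]; linear_combination (u * X ^ n) * huv
    rw [this]; exact key _
  · have : zz s r ^ n * (1 - ev s r (u * X ^ n)) = ev s r (X ^ n * (1 - u * X ^ n)) := by
      simp only [map_mul, map_sub, map_one, map_pow, ev_X]
    rw [this]
    have h2 : X ^ n * (1 - u * X ^ n) = v * p := by rw [hg]; linear_combination (-(X ^ n)) * huv
    rw [h2]; exact key _
  · rw [← ev_X, ← map_mul, ← map_mul, ← sub_eq_zero, ← map_sub]
    have : u' * X * (u * X ^ n) - u * X ^ n = (-(u * v')) * p := by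
      rw [hg]; linear_combination (u * X ^ n) * huv'
    rw [this]; exact key _

/-! ### The filtration -/

/-- The filtration of `(1 - e) M` by words in `s, r`. -/
def Nf (s r e : M →ₗ[k] M) : ℕ → Submodule k M
  | 0 => LinearMap.range (1 - e)
  | j + 1 => (Nf s r e j).map s ⊔ (Nf s r e j).map r

theorem Nf_zero (s r e : M →ₗ[k] M) : Nf s r e 0 = LinearMap.range (1 - e) := rfl

theorem Nf_succ (s r e : M →ₗ[k] M) (j : ℕ) : Nf s r e (j + 1) = (Nf s r e j).map s ⊔ (Nf s r e j).map r := rfl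

theorem Nf_antitone {s r e : M →ₗ[k] M} (hse : s * e = e * s) (hre : r * e = e * r) (j : ℕ) :
    Nf s r e (j + 1) ≤ Nf s r e j := by
  induction j with
  | zero =>
    rw [Nf_succ, Nf_zero]
    apply sup_le
    · rintro _ ⟨_, ⟨v, rfl⟩, rfl⟩
      refine ⟨s v, ?_⟩
      rw [← Module.End.mul_apply, ← Module.End.mul_apply]
      congr 1
      rw [sub_mul, mul_sub, one_mul, mul_one, hse]
    · rintro _ ⟨_, ⟨v, rfl⟩, rfl⟩
      refine ⟨r v, ?_⟩
      rw [← Module.End.mul_apply, ← Module.End.mul_apply]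
      congr 1
      rw [sub_mul, mul_sub, one_mul, mul_one, hre]
  | succ j ih =>
    rw [Nf_succ s r e (j + 1), Nf_succ s r e j]
    exact sup_le_sup (Submodule.map_mono ih) (Submodule.map_mono ih)

theorem Nf_antitone' {s r e : M →ₗ[k] M} (hse : s * e = e * s) (hre : r * e = e * r) {i j : ℕ} (hij : i ≤ j) :
    Nf s r e j ≤ Nf s r e i := by
  induction hij with
  | refl => exact le_refl _
  | step _ ih => exact (Nf_antitone hse hre _).trans ih

theorem Nf_three {s r e : M →ₗ[k] M} (hs : s * s = 0) (hr : r * r = 0) (j : ℕ) :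
    Nf s r e (j + 3) ≤ (Nf s r e (j + 1)).map (zz s r) := by
  rw [Nf_succ s r e (j + 2), Nf_succ s r e (j + 1), Nf_succ s r e j]
  have e1 : s * (s * s) = 0 := by rw [hs, mul_zero]
  have e2 : s * (s * r) = 0 := by rw [← mul_assoc, hs, zero_mul]
  have e3 : s * (r * r) = 0 := by rw [hr, mul_zero]
  have e4 : r * (s * s) = 0 := by rw [hs, mul_zero]
  have e5 : r * (r * s) = 0 := by rw [← mul_assoc, hr, zero_mul]
  have e6 : r * (r * r) = 0 := by rw [hr, mul_zero]
  have f1 : zz s r * s = s * (r * s) := by unfold zz; rw [add_mul, mul_assoc r, e4, add_zero, mul_assoc]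
  have f2 : zz s r * r = r * (s * r) := by unfold zz; rw [add_mul, mul_assoc s, e3, zero_add, mul_assoc]
  simp only [Submodule.map_sup, ← Submodule.map_comp, ← Module.End.mul_eq_comp, f1, f2, e1, e2, e3, e4, e5, e6,
    Submodule.map_zero]
  refine sup_le (sup_le (sup_le bot_le bot_le) (sup_le ?_ bot_le)) (sup_le (sup_le bot_le ?_) (sup_le bot_le bot_le))
  · exact le_sup_left
  · exact le_sup_right

theorem Nf_odd {s r e : M →ₗ[k] M} (hs : s * s = 0) (hr : r * r = 0) (i : ℕ) :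
    Nf s r e (2 * i + 1) ≤ (Nf s r e 1).map (zz s r ^ i) := by
  induction i with
  | zero => rw [pow_zero]; simp [Module.End.one_eq_id]
  | succ i ih =>
    have h := Nf_three (e := e) hs hr (2 * i)
    have e1 : 2 * (i + 1) + 1 = 2 * i + 3 := by ring
    rw [e1, pow_succ', Module.End.mul_eq_comp, Submodule.map_comp]
    exact h.trans (Submodule.map_mono ih)

theorem Nf_eq_bot {s r e : M →ₗ[k] M} (hs : s * s = 0) (hr : r * r = 0) (hse : s * e = e * s) (hre : r * e = e * r)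
    {n : ℕ} (hn : zz s r ^ n * (1 - e) = 0) : Nf s r e (2 * n + 1) = ⊥ := by
  rw [eq_bot_iff]
  refine (Nf_odd hs hr n).trans ((Submodule.map_mono (Nf_antitone hse hre 0)).trans ?_)
  rw [Nf_zero, ← LinearMap.range_comp, ← Module.End.mul_eq_comp, hn, LinearMap.range_zero]

/-- Endomorphisms shifting the filtration by `j`. -/
def Lf (s r e : M →ₗ[k] M) (j : ℕ) : Submodule k (M →ₗ[k] M) where
  carrier := {y | ∀ i, ∀ v ∈ Nf s r e i, y v ∈ Nf s r e (i + j)}
  zero_mem' := fun i v _ => by rw [LinearMap.zero_apply]; exact Submodule.zero_mem _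
  add_mem' := fun hx hy i v hv => by rw [LinearMap.add_apply]; exact Submodule.add_mem _ (hx i v hv) (hy i v hv)
  smul_mem' := fun c x hx i v hv => by rw [LinearMap.smul_apply]; exact Submodule.smul_mem _ _ (hx i v hv)

theorem mem_Lf {s r e : M →ₗ[k] M} {j : ℕ} {y : M →ₗ[k] M} :
    y ∈ Lf s r e j ↔ ∀ i, ∀ v ∈ Nf s r e i, y v ∈ Nf s r e (i + j) := Iff.rfl

theorem Lf_mul {s r e : M →ₗ[k] M} {i j : ℕ} {x y : M →ₗ[k] M} (hx : x ∈ Lf s r e i) (hy : y ∈ Lf s r e j) :
    x * y ∈ Lf s r e (i + j) := by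
  intro l v hv
  have h1 := hy l v hv
  have h2 := hx _ _ h1
  rw [Module.End.mul_apply]
  have e1 : l + (i + j) = l + j + i := by ring
  rw [e1]; exact h2

theorem Lf_s (s r e : M →ₗ[k] M) : s ∈ Lf s r e 1 := fun i v hv => by
  rw [Nf_succ]; exact Submodule.mem_sup_left ⟨v, hv, rfl⟩

theorem Lf_r (s r e : M →ₗ[k] M) : r ∈ Lf s r e 1 := fun i v hv => by
  rw [Nf_succ]; exact Submodule.mem_sup_right ⟨v, hv, rfl⟩

theorem Lf_one (s r e : M →ₗ[k] M) : (1 : M →ₗ[k] M) ∈ Lf s r e 0 := fun i v hv => hv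

theorem Lf_antitone {s r e : M →ₗ[k] M} (hse : s * e = e * s) (hre : r * e = e * r) {i j : ℕ} (hij : i ≤ j) :
    Lf s r e j ≤ Lf s r e i := fun _ hy l v hv => Nf_antitone' hse hre (by omega) (hy l v hv)

theorem Lf_ev {s r e : M →ₗ[k] M} (hse : s * e = e * s) (hre : r * e = e * r) (p : k[X]) :
    ev s r p ∈ Lf s r e 0 := by
  have hz : zz s r ∈ Lf s r e 0 := by
    unfold zz
    exact Submodule.add_mem _ (Lf_antitone hse hre (Nat.zero_le _) (Lf_mul (Lf_s s r e) (Lf_r s r e)))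
      (Lf_antitone hse hre (Nat.zero_le _) (Lf_mul (Lf_r s r e) (Lf_s s r e)))
  have hzn : ∀ n : ℕ, zz s r ^ n ∈ Lf s r e 0 := by
    intro n
    induction n with
    | zero => rw [pow_zero]; exact Lf_one s r e
    | succ n ih => rw [pow_succ]; exact Lf_mul ih hz
  induction p using Polynomial.induction_on' with
  | add p q hp hq => rw [map_add]; exact Submodule.add_mem _ hp hq
  | monomial n a =>
    rw [← C_mul_X_pow_eq_monomial, map_mul, ev_C, map_pow, ev_X, smul_mul_assoc, one_mul]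
    exact Submodule.smul_mem _ _ (hzn n)

theorem Lf_ev_mul {s r e : M →ₗ[k] M} (hse : s * e = e * s) (hre : r * e = e * r) (p : k[X]) {y : M →ₗ[k] M} {j : ℕ}
    (hy : y ∈ Lf s r e j) : ev s r p * y ∈ Lf s r e j := by
  have := Lf_mul (Lf_ev hse hre p) hy
  rwa [zero_add] at this

theorem Wd_Lf {s r e : M →ₗ[k] M} (hse : s * e = e * s) (hre : r * e = e * r)
    {x : Matrix.SpecialLinearGroup (Fin 2) k[X] × LinearMap.GeneralLinearGroup k M} {a b c d : k[X]}
    (hx : Wd s r x a b c d) : (x.2 : M →ₗ[k] M) - 1 ∈ Lf s r e 1 := by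
  rw [hx.2.2.2.2]
  have e1 : 1 + ev s r a * (s * r) + ev s r b * s + ev s r c * r + ev s r d * (r * s) - 1 =
      ev s r a * (s * r) + ev s r b * s + ev s r c * r + ev s r d * (r * s) := by abel
  rw [e1]
  have h12 : Lf s r e (1 + 1) ≤ Lf s r e 1 := Lf_antitone hse hre (by omega)
  exact Submodule.add_mem _ (Submodule.add_mem _ (Submodule.add_mem _
    (Lf_ev_mul hse hre _ (h12 (Lf_mul (Lf_s s r e) (Lf_r s r e)))) (Lf_ev_mul hse hre _ (Lf_s s r e)))
    (Lf_ev_mul hse hre _ (Lf_r s r e))) (Lf_ev_mul hse hre _ (h12 (Lf_mul (Lf_r s r e) (Lf_s s r e))))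

theorem Lf_unit_of_sub {s r e : M →ₗ[k] M} {y : M →ₗ[k] M} (hse : s * e = e * s) (hre : r * e = e * r)
    (hy : y - 1 ∈ Lf s r e 1) : y ∈ Lf s r e 0 := by
  have h := Submodule.add_mem _ (Lf_antitone hse hre (Nat.zero_le 1) hy) (Lf_one s r e)
  rwa [sub_add_cancel] at h

theorem val_mul_inv' (g : LinearMap.GeneralLinearGroup k M) :
    (g : M →ₗ[k] M) * ((g⁻¹ : LinearMap.GeneralLinearGroup k M) : M →ₗ[k] M) = 1 := Units.mul_inv g

theorem val_inv_mul' (g : LinearMap.GeneralLinearGroup k M) :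
    ((g⁻¹ : LinearMap.GeneralLinearGroup k M) : M →ₗ[k] M) * (g : M →ₗ[k] M) = 1 := Units.inv_mul g

/-- commutators move deeper into the filtration -/
theorem Lf_commutator {s r e : M →ₗ[k] M} (hse : s * e = e * s) (hre : r * e = e * r)
    {g h : LinearMap.GeneralLinearGroup k M} {i j : ℕ} (hg : (g : M →ₗ[k] M) - 1 ∈ Lf s r e i)
    (hh : (h : M →ₗ[k] M) - 1 ∈ Lf s r e j)
    (hg' : ((g⁻¹ : LinearMap.GeneralLinearGroup k M) : M →ₗ[k] M) ∈ Lf s r e 0)
    (hh' : ((h⁻¹ : LinearMap.GeneralLinearGroup k M) : M →ₗ[k] M) ∈ Lf s r e 0) :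
    ((g * h * g⁻¹ * h⁻¹ : LinearMap.GeneralLinearGroup k M) : M →ₗ[k] M) - 1 ∈ Lf s r e (i + j) := by
  have e1 : ((g * h * g⁻¹ * h⁻¹ : LinearMap.GeneralLinearGroup k M) : M →ₗ[k] M) - 1 =
      (((g : M →ₗ[k] M) - 1) * ((h : M →ₗ[k] M) - 1) - ((h : M →ₗ[k] M) - 1) * ((g : M →ₗ[k] M) - 1)) *
        (((g⁻¹ : LinearMap.GeneralLinearGroup k M) : M →ₗ[k] M) * ((h⁻¹ : LinearMap.GeneralLinearGroup k M) : M →ₗ[k] M)) := by
    have e2 : ((g : M →ₗ[k] M) - 1) * ((h : M →ₗ[k] M) - 1) - ((h : M →ₗ[k] M) - 1) * ((g : M →ₗ[k] M) - 1) =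
        (g : M →ₗ[k] M) * (h : M →ₗ[k] M) - (h : M →ₗ[k] M) * (g : M →ₗ[k] M) := by noncomm_ring
    rw [e2, sub_mul, Units.val_mul, Units.val_mul, Units.val_mul]
    have e3 : (h : M →ₗ[k] M) * (g : M →ₗ[k] M) * (((g⁻¹ : LinearMap.GeneralLinearGroup k M) : M →ₗ[k] M) *
        ((h⁻¹ : LinearMap.GeneralLinearGroup k M) : M →ₗ[k] M)) = 1 := by
      calc _ = (h : M →ₗ[k] M) * ((g : M →ₗ[k] M) * ((g⁻¹ : LinearMap.GeneralLinearGroup k M) : M →ₗ[k] M)) *
          ((h⁻¹ : LinearMap.GeneralLinearGroup k M) : M →ₗ[k] M) := by noncomm_ring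
        _ = 1 := by rw [val_mul_inv', mul_one, val_mul_inv']
    rw [e3]; noncomm_ring
  rw [e1]
  have h1 : ((g : M →ₗ[k] M) - 1) * ((h : M →ₗ[k] M) - 1) - ((h : M →ₗ[k] M) - 1) * ((g : M →ₗ[k] M) - 1) ∈
      Lf s r e (i + j) := by
    apply Submodule.sub_mem _ (Lf_mul hg hh)
    have := Lf_mul hh hg
    rwa [add_comm j i] at this
  have := Lf_mul h1 (Lf_mul hg' hh')
  simpa using this

/-- iterated commutators with `h` -/
noncomputable def itc {s r : M →ₗ[k] M} (h w : Matrix.SpecialLinearGroup (Fin 2) k[X] × LinearMap.GeneralLinearGroup k M) :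
    ℕ → Matrix.SpecialLinearGroup (Fin 2) k[X] × LinearMap.GeneralLinearGroup k M
  | 0 => w
  | j + 1 => h * itc (s := s) (r := r) h w j * h⁻¹ * (itc (s := s) (r := r) h w j)⁻¹

/-- **Killing the nilpotent part.** -/
theorem kill {G : Subgroup (LinearMap.GeneralLinearGroup k M)} {s r : M →ₗ[k] M} (hs : RV G s) (hr : RV G r)
    {E W : k[X]} {n : ℕ} (hf : Fit s r E W n)
    {h w : Matrix.SpecialLinearGroup (Fin 2) k[X] × LinearMap.GeneralLinearGroup k M}
    (hh : h ∈ TT s r hs.1 hr.1) (hw : w ∈ TT s r hs.1 hr.1) {y : M →ₗ[k] M} {l : k} (hyy : y * y = 0)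
    (hye : y * ev s r E = y) (hey : ev s r E * y = y)
    (hwe : (w.2 : M →ₗ[k] M) * ev s r E = ev s r E + y) (hhy : cj h.2 y = (1 + l) • y) :
    ∃ g ∈ G, (g : M →ₗ[k] M) = 1 + (l ^ (2 * n)) • y := by
  set e := ev s r E with he
  have hse : s * e = e * s := s_ev hs.1 E
  have hre : r * e = e * r := r_ev hr.1 E
  have hcomm : ∀ x ∈ TT s r hs.1 hr.1, (x.2 : M →ₗ[k] M) * e = e * (x.2 : M →ₗ[k] M) := by
    intro x hx
    obtain ⟨a, b, c, d, hW⟩ := TT_Wd hs.1 hr.1 hx
    rw [hW.2.2.2.2]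
    have f : ∀ p : k[X], ev s r p * e = e * ev s r p := fun p => ev_comm s r p E
    simp only [add_mul, mul_add, one_mul, mul_one]
    rw [mul_assoc, mul_assoc s r e, hre, ← mul_assoc s e r, hse, mul_assoc, ← mul_assoc (ev s r a) e, f, mul_assoc e,
      mul_assoc (ev s r b), hse, ← mul_assoc (ev s r b) e, f, mul_assoc e, mul_assoc (ev s r c), hre,
      ← mul_assoc (ev s r c) e, f, mul_assoc e, mul_assoc (ev s r d), mul_assoc r s e, hse, ← mul_assoc r e s, hre,
      mul_assoc e r s, ← mul_assoc (ev s r d) e, f, mul_assoc e]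
  have hone : ∀ x ∈ TT s r hs.1 hr.1, (x.2 : M →ₗ[k] M) - 1 ∈ Lf s r e 1 := by
    intro x hx
    obtain ⟨a, b, c, d, hW⟩ := TT_Wd hs.1 hr.1 hx
    exact Wd_Lf hse hre hW
  have hinv : ∀ x ∈ TT s r hs.1 hr.1, ((x.2⁻¹ : LinearMap.GeneralLinearGroup k M) : M →ₗ[k] M) ∈ Lf s r e 0 := by
    intro x hx
    have := hone _ (Subgroup.inv_mem _ hx)
    rw [Prod.snd_inv] at this
    exact Lf_unit_of_sub hse hre this
  have main : ∀ j, itc (s := s) (r := r) h w j ∈ TT s r hs.1 hr.1 ∧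
      ((itc (s := s) (r := r) h w j).2 : M →ₗ[k] M) - 1 ∈ Lf s r e (j + 1) ∧
      ((itc (s := s) (r := r) h w j).2 : M →ₗ[k] M) * e = e + (l ^ j) • y := by
    intro j
    induction j with
    | zero => exact ⟨hw, hone _ hw, by rw [pow_zero, one_smul]; exact hwe⟩
    | succ j ih =>
      obtain ⟨i1, i2, i3⟩ := ih
      set v := itc (s := s) (r := r) h w j with hv
      have hstep : itc (s := s) (r := r) h w (j + 1) = h * v * h⁻¹ * v⁻¹ := rfl
      rw [hstep]
      refine ⟨?_, ?_, ?_⟩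
      · exact Subgroup.mul_mem _ (Subgroup.mul_mem _ (Subgroup.mul_mem _ hh i1) (Subgroup.inv_mem _ hh))
          (Subgroup.inv_mem _ i1)
      · rw [Prod.snd_mul, Prod.snd_mul, Prod.snd_mul, Prod.snd_inv, Prod.snd_inv]
        have := Lf_commutator hse hre (hone _ hh) i2 (hinv _ hh) (hinv _ i1)
        rwa [add_comm 1 (j + 1)] at this
      · rw [Prod.snd_mul, Prod.snd_mul, Prod.snd_mul, Prod.snd_inv, Prod.snd_inv]
        obtain ⟨y', hy'⟩ : ∃ y', y' = (l ^ j) • y := ⟨_, rfl⟩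
        rw [← hy'] at i3
        have y'y' : y' * y' = 0 := by rw [hy', smul_mul_smul_comm, hyy, smul_zero]
        have y'e : y' * e = y' := by rw [hy', smul_mul_assoc, hye]
        have ey' : e * y' = y' := by rw [hy', mul_smul_comm, hey]
        have ee := hf.ee
        rw [← he] at ee
        have i4 : ((v.2⁻¹ : LinearMap.GeneralLinearGroup k M) : M →ₗ[k] M) * e = e - y' := by
          have h1 : (v.2 : M →ₗ[k] M) * (e - y') = e := by
            calc (v.2 : M →ₗ[k] M) * (e - y') = (v.2 : M →ₗ[k] M) * e * (e - y') := by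
                  rw [mul_assoc, mul_sub e, ee, ey']
              _ = e := by rw [i3, add_mul, mul_sub, mul_sub, ee, ey', y'e, y'y']; abel
          calc ((v.2⁻¹ : LinearMap.GeneralLinearGroup k M) : M →ₗ[k] M) * e
              = ((v.2⁻¹ : LinearMap.GeneralLinearGroup k M) : M →ₗ[k] M) * ((v.2 : M →ₗ[k] M) * (e - y')) := by rw [h1]
            _ = e - y' := by rw [← mul_assoc, val_inv_mul', one_mul]
        have i5 : cj h.2 (e + y') = e + (1 + l) • y' := by
          have h2 : cj h.2 e = e := by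
            unfold cj
            rw [hcomm _ hh, mul_assoc, val_mul_inv', mul_one]
          rw [cj_add, h2, hy', cj_smul, hhy, smul_comm]
        have i6 : (h.2 : M →ₗ[k] M) * (v.2 : M →ₗ[k] M) * ((h.2⁻¹ : LinearMap.GeneralLinearGroup k M) : M →ₗ[k] M) * e =
            e + (1 + l) • y' := by
          rw [← i5, ← i3]
          unfold cj
          have h3 : ((h.2⁻¹ : LinearMap.GeneralLinearGroup k M) : M →ₗ[k] M) * e =
              e * ((h.2⁻¹ : LinearMap.GeneralLinearGroup k M) : M →ₗ[k] M) := by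
            have := hcomm _ (Subgroup.inv_mem _ hh)
            rwa [Prod.snd_inv] at this
          rw [mul_assoc, h3]; noncomm_ring
        rw [Units.val_mul, Units.val_mul, Units.val_mul, mul_assoc, i4]
        calc (h.2 : M →ₗ[k] M) * (v.2 : M →ₗ[k] M) * ((h.2⁻¹ : LinearMap.GeneralLinearGroup k M) : M →ₗ[k] M) * (e - y')
            = (h.2 : M →ₗ[k] M) * (v.2 : M →ₗ[k] M) * ((h.2⁻¹ : LinearMap.GeneralLinearGroup k M) : M →ₗ[k] M) * e * (e - y') := by
              rw [mul_assoc _ e, mul_sub e, ee, ey']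
          _ = e + l • y' := by
              rw [i6, add_mul, mul_sub, mul_sub, ee, ey', smul_mul_assoc, smul_mul_assoc, y'e, y'y', smul_zero,
                add_smul, one_smul]; abel
          _ = e + (l ^ (j + 1)) • y := by rw [hy', smul_smul, pow_succ']
  obtain ⟨m1, m2, m3⟩ := main (2 * n)
  refine ⟨_, TT_mem hs hr m1, ?_⟩
  set v := itc (s := s) (r := r) h w (2 * n) with hv
  have hbot := Nf_eq_bot hs.1 hr.1 hse hre hf.nil
  have h0 : ((v.2 : M →ₗ[k] M) - 1) * (1 - e) = 0 := by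
    ext u
    rw [Module.End.mul_apply, LinearMap.zero_apply]
    have := m2 0 ((1 - e) u) (by rw [Nf_zero]; exact ⟨u, rfl⟩)
    rw [zero_add, hbot] at this
    exact (Submodule.mem_bot k).1 this
  have e2 : (v.2 : M →ₗ[k] M) = (v.2 : M →ₗ[k] M) * e + ((v.2 : M →ₗ[k] M) - 1) * (1 - e) + (1 - e) := by noncomm_ring
  rw [e2, m3, h0]; abel

end Cfsg.Agent.H731
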