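/-
The residue ring of a pair of root vectors and the core of theorem T2 (helper731).
-/
import Cfsg.Agent.H731.QuadFit
import Cfsg.Agent.S5060

set_option autoImplicit false
open Cfsg Polynomial

namespace Cfsg.Agent.H731

variable {k : Type*} [Field k] {M : Type*} [AddCommGroup M] [Module k M]

/-- The polynomials `p` with `p(z) e = 0`. -/
noncomputable def II (s r : M →ₗ[k] M) (E : k[X]) : Ideal k[X] where
  carrier := {p | ev s r p * ev s r E = 0}
  zero_mem' := by
    change ev s r 0 * ev s r E = 0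
    rw [map_zero, zero_mul]
  add_mem' := by
    intro a b ha hb
    change ev s r (a + b) * ev s r E = 0
    rw [map_add, add_mul, ha, hb, add_zero]
  smul_mem' := by
    intro c x hx
    change ev s r (c • x) * ev s r E = 0
    rw [smul_eq_mul, map_mul, mul_assoc, hx, mul_zero]

theorem mem_II {s r : M →ₗ[k] M} {E p : k[X]} : p ∈ II s r E ↔ ev s r p * ev s r E = 0 := Iff.rfl

theorem mk_eq {s r : M →ₗ[k] M} {E p q : k[X]} :
    Ideal.Quotient.mk (II s r E) p = Ideal.Quotient.mk (II s r E) q ↔ ev s r p * ev s r E = ev s r q * ev s r E := by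
  rw [Ideal.Quotient.eq, mem_II, map_sub, sub_mul, sub_eq_zero]

theorem Fit.W_X {s r : M →ₗ[k] M} {E W : k[X]} {n : ℕ} (hf : Fit s r E W n) : 
    ev s r (W * X) * ev s r E = ev s r E := by rw [map_mul, ev_X]; exact hf.inv

theorem Fit.cancelX {s r : M →ₗ[k] M} {E W : k[X]} {n : ℕ} (hf : Fit s r E W n) {p : k[X]}
    (h : ev s r (p * X) * ev s r E = 0) : ev s r p * ev s r E = 0 := by
  have h1 : ev s r p * ev s r E = ev s r W * (ev s r (p * X) * ev s r E) := by
    calc ev s r p * ev s r E = ev s r p * (ev s r (W * X) * ev s r E) := by rw [hf.W_X]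
      _ = ev s r W * (ev s r (p * X) * ev s r E) := by
        simp only [← map_mul]; congr 1; ring
  rw [h1, h, mul_zero]

theorem Fit.of_s {s r : M →ₗ[k] M} {E W : k[X]} {n : ℕ} (hf : Fit s r E W n) (hs : s * s = 0) (hr : r * r = 0) {p : k[X]}
    (h : ev s r p * ev s r E * s = 0) : ev s r p * ev s r E = 0 := by
  apply hf.cancelX
  have h1 : ev s r (p * X) * ev s r E = (ev s r p * ev s r E * s) * r + r * (ev s r p * ev s r E * s) := by
    have e1 : r * (ev s r p * ev s r E * s) = ev s r p * ev s r E * (r * s) := by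
      rw [← mul_assoc, ← mul_assoc, r_ev hr, mul_assoc (ev s r p), r_ev hr]; noncomm_ring
    rw [e1, map_mul, ev_X]
    have e2 : ev s r p * zz s r * ev s r E = ev s r p * ev s r E * zz s r := by
      rw [mul_assoc, mul_assoc, ← ev_X, ev_comm]
    rw [e2]; unfold zz; noncomm_ring
  rw [h1, h]; simp

theorem Fit.of_r {s r : M →ₗ[k] M} {E W : k[X]} {n : ℕ} (hf : Fit s r E W n) (hs : s * s = 0) (hr : r * r = 0) {p : k[X]}
    (h : ev s r p * ev s r E * r = 0) : ev s r p * ev s r E = 0 := by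
  apply hf.cancelX
  have h1 : ev s r (p * X) * ev s r E = (ev s r p * ev s r E * r) * s + s * (ev s r p * ev s r E * r) := by
    have e1 : s * (ev s r p * ev s r E * r) = ev s r p * ev s r E * (s * r) := by
      rw [← mul_assoc, ← mul_assoc, s_ev hs, mul_assoc (ev s r p), s_ev hs]; noncomm_ring
    rw [e1, map_mul, ev_X]
    have e2 : ev s r p * zz s r * ev s r E = ev s r p * ev s r E * zz s r := by
      rw [mul_assoc, mul_assoc, ← ev_X, ev_comm]
    rw [e2]; unfold zz; noncomm_ring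
  rw [h1, h]; simp

theorem Fit.ne_top {s r : M →ₗ[k] M} {E : k[X]} (hne : ev s r E ≠ 0) : II s r E ≠ ⊤ := by
  intro h
  have : (1 : k[X]) ∈ II s r E := by rw [h]; exact Submodule.mem_top
  rw [mem_II, map_one, one_mul] at this
  exact hne this

theorem Fit.ne_zero {s r : M →ₗ[k] M} {E W : k[X]} {n : ℕ} (hf : Fit s r E W n) (hn : ¬ IsNilpotent (zz s r)) :
    ev s r E ≠ 0 := by
  intro h
  have := hf.nil
  rw [h, sub_zero, mul_one] at this
  exact hn ⟨n, this⟩

theorem finite_quot [FiniteDimensional k M] (s r : M →ₗ[k] M) (E : k[X]) {J : Ideal k[X]} (hJ : II s r E ≤ J) :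
    FiniteDimensional k (k[X] ⧸ J) := by
  have hint : IsIntegral k (zz s r : Module.End k M) := Algebra.IsIntegral.isIntegral _
  set p := minpoly k (zz s r : Module.End k M) with hpdef
  have hp : ev s r p = 0 := minpoly.aeval k (zz s r : Module.End k M)
  have hpm : p.Monic := minpoly.monic hint
  have hpJ : p ∈ J := hJ (by rw [mem_II, hp, zero_mul])
  have hle : Ideal.span {p} ≤ J := by
    rw [Ideal.span_le, Set.singleton_subset_iff]; exact hpJ
  haveI : Module.Finite k (k[X] ⧸ Ideal.span {p}) := hpm.finite_quotient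
  exact Module.Finite.of_surjective (Ideal.Quotient.factorₐ k hle).toLinearMap
    (Ideal.Quotient.factor_surjective hle)

/-- reduction of the first component -/
noncomputable def redm (J : Ideal k[X]) : Matrix.SpecialLinearGroup (Fin 2) k[X] →* Matrix.SpecialLinearGroup (Fin 2) (k[X] ⧸ J) :=
  Matrix.SpecialLinearGroup.map (Ideal.Quotient.mk J)

theorem redm_apply (J : Ideal k[X]) (g : Matrix.SpecialLinearGroup (Fin 2) k[X]) (i j : Fin 2) :
    (redm J g : Matrix (Fin 2) (Fin 2) (k[X] ⧸ J)) i j = Ideal.Quotient.mk J ((g : Matrix (Fin 2) (Fin 2) k[X]) i j) := rfl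

theorem redm_up (J : Ideal k[X]) (f : k[X]) : redm J (upR f) = upR (Ideal.Quotient.mk J f) := by
  apply slR_ext <;> simp only [redm_apply, upR_00, upR_01, upR_10, upR_11, map_one, map_zero]

theorem redm_lo (J : Ideal k[X]) (f : k[X]) : redm J (loR f) = loR (Ideal.Quotient.mk J f) := by
  apply slR_ext <;> simp only [redm_apply, loR_00, loR_01, loR_10, loR_11, map_one, map_zero]

theorem core1 [FiniteDimensional k M] (hk2 : ringChar k ≠ 2) (hk3 : Nat.card k ≠ 3) {s r : M →ₗ[k] M}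
    (hs : s * s = 0) (hr : r * r = 0) {E W : k[X]} {n : ℕ} (hf : Fit s r E W n) (hne : ev s r E ≠ 0)
    (hq : ∀ x ∈ TT s r hs hr, Ideal.Quotient.mk (II s r E) ((x.1 : Matrix (Fin 2) (Fin 2) k[X]) 1 0) = 0 ∨
      IsUnit (Ideal.Quotient.mk (II s r E) ((x.1 : Matrix (Fin 2) (Fin 2) k[X]) 1 0))) :
    (II s r E).IsMaximal ∧ (∀ y : k[X] ⧸ II s r E, ∃ x ∈ TT s r hs hr, redm (II s r E) x.1 = upR y) ∧
      (∀ y : k[X] ⧸ II s r E, ∃ x ∈ TT s r hs hr, redm (II s r E) x.1 = loR y) := by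
  obtain ⟨J, hJmax, hIJ⟩ := Ideal.exists_le_maximal _ (Fit.ne_top hne)
  letI : Field (k[X] ⧸ J) := Ideal.Quotient.field J
  haveI : FiniteDimensional k (k[X] ⧸ J) := finite_quot s r E hIJ
  set I := II s r E with hI
  let φ : (k[X] ⧸ I) →ₐ[k] (k[X] ⧸ J) := Ideal.Quotient.factorₐ k hIJ
  have hφ : ∀ p : k[X], φ (Ideal.Quotient.mk I p) = Ideal.Quotient.mk J p := fun p => rfl
  have hz : IsUnit (Ideal.Quotient.mk I X) := by
    refine IsUnit.of_mul_eq_one (Ideal.Quotient.mk I W) ?_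
    rw [← map_mul, ← map_one (Ideal.Quotient.mk I), mk_eq, mul_comm X W, hf.W_X, map_one, one_mul]
  have hgen : Algebra.adjoin k ({Ideal.Quotient.mk I X} : Set (k[X] ⧸ I)) = ⊤ := by
    have h1 := (Ideal.Quotient.mkₐ k I).map_adjoin ({X} : Set k[X])
    rw [Polynomial.adjoin_X, Set.image_singleton, Algebra.map_top] at h1
    rw [eq_comm, ← (AlgHom.range_eq_top _).2 (Ideal.Quotient.mkₐ_surjective k I)]
    exact h1
  let H : Subgroup (Matrix.SpecialLinearGroup (Fin 2) (k[X] ⧸ I)) :=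
    (TT s r hs hr).map ((redm I).comp (MonoidHom.fst _ _))
  have hHmem : ∀ x ∈ TT s r hs hr, redm I x.1 ∈ H := fun x hx => ⟨x, hx, rfl⟩
  have hu : ∀ c : k, upR (algebraMap k (k[X] ⧸ I) c) ∈ H := by
    intro c
    have := hHmem _ (TT_up hs hr c)
    rwa [redm_up] at this
  have hl : loR (Ideal.Quotient.mk I X) ∈ H := by
    have := hHmem _ (TT_lo hs hr 1)
    rwa [redm_lo, map_one, one_mul] at this
  have h10 : ∀ g ∈ H, (g : Matrix (Fin 2) (Fin 2) (k[X] ⧸ I)) 1 0 = 0 ∨
      IsUnit ((g : Matrix (Fin 2) (Fin 2) (k[X] ⧸ I)) 1 0) := by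
    rintro _ ⟨x, hx, rfl⟩
    exact hq x hx
  -- the residue field
  set α := Ideal.Quotient.mk J X with hα
  have hα0 : α ≠ 0 := by
    have := (hz.map φ).ne_zero
    rwa [hφ] at this
  have hαalg : IsAlgebraic k α := Algebra.IsAlgebraic.isAlgebraic α
  have h60 := Cfsg.Agent.S5060.result (k := k) (K := k[X] ⧸ J) hk2 hk3 α hαalg hα0
  have htop : ∀ y : k[X] ⧸ J, y ∈ IntermediateField.adjoin k ({α} : Set (k[X] ⧸ J)) := by
    intro y
    obtain ⟨p, rfl⟩ := Ideal.Quotient.mk_surjective y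
    have h1 : α ∈ IntermediateField.adjoin k ({α} : Set (k[X] ⧸ J)) :=
      IntermediateField.mem_adjoin_simple_self k α
    induction p using Polynomial.induction_on' with
    | add p q hp hq => rw [map_add]; exact add_mem hp hq
    | monomial m a =>
      rw [← C_mul_X_pow_eq_monomial, map_mul, map_pow]
      exact mul_mem (IntermediateField.algebraMap_mem _ a) (pow_mem h1 m)
  let KF : Subgroup (Matrix.SpecialLinearGroup (Fin 2) (k[X] ⧸ J)) :=
    (TT s r hs hr).map ((redm J).comp (MonoidHom.fst _ _))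
  have hKF : ∀ y : k[X] ⧸ J, upR y ∈ KF := by
    intro y
    have hmem : upR y ∈ {g : Matrix.SpecialLinearGroup (Fin 2) (k[X] ⧸ J) | ∀ i j : Fin 2,
        (g : Matrix (Fin 2) (Fin 2) (k[X] ⧸ J)) i j ∈ IntermediateField.adjoin k ({α} : Set (k[X] ⧸ J))} :=
      fun i j => htop _
    rw [← h60] at hmem
    refine (Subgroup.closure_le KF).2 ?_ hmem
    rintro g (⟨c, hc⟩ | ⟨c, hc⟩)
    · refine ⟨_, TT_up hs hr c, ?_⟩
      apply Subtype.ext
      rw [hc]
      change (redm J (upR (C c)) : Matrix (Fin 2) (Fin 2) (k[X] ⧸ J)) = _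
      rw [redm_up]; rfl
    · refine ⟨_, TT_lo hs hr c, ?_⟩
      apply Subtype.ext
      rw [hc]
      change (redm J (loR (C c * X)) : Matrix (Fin 2) (Fin 2) (k[X] ⧸ J)) = _
      rw [redm_lo, map_mul]; rfl
  have hlift : ∀ a : k[X] ⧸ J, ∃ g ∈ H, φ ((g : Matrix (Fin 2) (Fin 2) (k[X] ⧸ I)) 0 0) = 1 ∧
      φ ((g : Matrix (Fin 2) (Fin 2) (k[X] ⧸ I)) 0 1) = a ∧ φ ((g : Matrix (Fin 2) (Fin 2) (k[X] ⧸ I)) 1 0) = 0 := by
    intro a
    obtain ⟨x, hx, hxa⟩ := hKF a
    change redm J x.1 = upR a at hxa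
    refine ⟨redm I x.1, hHmem x hx, ?_, ?_, ?_⟩
    · rw [redm_apply, hφ, ← redm_apply, hxa, upR_00]
    · rw [redm_apply, hφ, ← redm_apply, hxa, upR_01]
    · rw [redm_apply, hφ, ← redm_apply, hxa, upR_10]
  obtain ⟨r1, r2, r3⟩ := L1 hk2 φ hz hgen H hu hl hlift h10
  have hIJ' : J ≤ I := by
    intro p hp
    have h1 := r2 (Ideal.Quotient.mk I p) (by rw [hφ]; exact Ideal.Quotient.eq_zero_iff_mem.2 hp)
    exact Ideal.Quotient.eq_zero_iff_mem.1 h1
  have hEq : I = J := le_antisymm hIJ hIJ'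
  refine ⟨by rw [hEq]; exact hJmax, ?_, ?_⟩
  · intro y
    obtain ⟨x, hx, hxy⟩ := r1 y
    exact ⟨x, hx, hxy⟩
  · intro y
    obtain ⟨x, hx, hxy⟩ := r3 y
    exact ⟨x, hx, hxy⟩

end Cfsg.Agent.H731
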