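/-
Core of theorem T2, second part (helper731): root vectors `f(z) e s`, `f(z) e r`.
-/
import Cfsg.Agent.H731.QuadCore

set_option autoImplicit false
open Cfsg Polynomial

namespace Cfsg.Agent.H731

variable {k : Type*} [Field k] {M : Type*} [AddCommGroup M] [Module k M]

theorem exists_sq_ne_one (hk2 : ringChar k ≠ 2) (hk3 : Nat.card k ≠ 3) : ∃ c : k, c ≠ 0 ∧ c ^ 2 ≠ 1 := by
  classical
  by_contra hcon
  push Not at hcon
  apply hk3
  have h2 : (2 : k) ≠ 0 := Ring.two_ne_zero hk2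
  have huniv : (Set.univ : Set k) = (({0, 1, -1} : Finset k) : Set k) := by
    ext c
    simp only [Set.mem_univ, Finset.coe_insert, Finset.coe_singleton, Set.mem_insert_iff, Set.mem_singleton_iff,
      true_iff]
    by_cases hc : c = 0
    · left; exact hc
    · right
      have h := hcon c hc
      have h3 : (c - 1) * (c + 1) = 0 := by linear_combination h
      rcases mul_eq_zero.1 h3 with h4 | h4
      · left; linear_combination h4
      · right; linear_combination h4
  rw [← Set.ncard_univ, huniv, Set.ncard_coe_finset]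
  have h01 : (0 : k) ≠ 1 := zero_ne_one
  have h0m : (0 : k) ≠ -1 := by
    intro h; apply one_ne_zero (α := k); linear_combination h
  have h1m : (1 : k) ≠ -1 := by
    intro h; apply h2; linear_combination h
  rw [Finset.card_insert_of_notMem, Finset.card_insert_of_notMem, Finset.card_singleton]
  · rw [Finset.mem_singleton]; exact h1m
  · rw [Finset.mem_insert, Finset.mem_singleton]
    rintro (h | h)
    · exact h01 h
    · exact h0m h

theorem ev_e_comm (s r : M →ₗ[k] M) {E : k[X]} (p : k[X]) (y : M →ₗ[k] M) (hy : y * ev s r E = ev s r E * y) :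
    ev s r p * y * ev s r E = ev s r p * ev s r E * y := by
  rw [mul_assoc, hy, mul_assoc]

/-- words that reduce to `u(g)` -/
theorem word_up {s r : M →ₗ[k] M} (hs : s * s = 0) (hr : r * r = 0) {E W : k[X]} {n : ℕ} (hf : Fit s r E W n)
    {x : Matrix.SpecialLinearGroup (Fin 2) k[X] × LinearMap.GeneralLinearGroup k M} {a b c d : k[X]}
    (hx : Wd s r x a b c d) {g : k[X]} (hg : redm (II s r E) x.1 = upR (Ideal.Quotient.mk (II s r E) g)) :
    (x.2 : M →ₗ[k] M) * ev s r E = ev s r E + ev s r g * ev s r E * s := by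
  obtain ⟨x1, x2, x3, x4, x5⟩ := hx
  have h00 : Ideal.Quotient.mk (II s r E) (1 + a * X) = Ideal.Quotient.mk (II s r E) 1 := by
    rw [← x1, ← redm_apply, hg, upR_00, map_one]
  have h01 : Ideal.Quotient.mk (II s r E) b = Ideal.Quotient.mk (II s r E) g := by
    rw [← x2, ← redm_apply, hg, upR_01]
  have h10 : Ideal.Quotient.mk (II s r E) (c * X) = Ideal.Quotient.mk (II s r E) 0 := by
    rw [← x3, ← redm_apply, hg, upR_10, map_zero]
  have h11 : Ideal.Quotient.mk (II s r E) (1 + d * X) = Ideal.Quotient.mk (II s r E) 1 := by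
    rw [← x4, ← redm_apply, hg, upR_11, map_one]
  rw [mk_eq] at h00 h01 h10 h11
  have ha : ev s r a * ev s r E = 0 := hf.cancelX (by
    rw [map_add, add_mul, add_eq_left] at h00; exact h00)
  have hd : ev s r d * ev s r E = 0 := hf.cancelX (by
    rw [map_add, add_mul, add_eq_left] at h11; exact h11)
  have hc : ev s r c * ev s r E = 0 := hf.cancelX (by rw [h10, map_zero, zero_mul])
  have hse := s_ev (r := r) hs E
  have hre := r_ev (s := s) hr E
  have hsre : s * r * ev s r E = ev s r E * (s * r) := by rw [mul_assoc, hre, ← mul_assoc, hse, mul_assoc]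
  have hrse : r * s * ev s r E = ev s r E * (r * s) := by rw [mul_assoc, hse, ← mul_assoc, hre, mul_assoc]
  rw [x5, add_mul, add_mul, add_mul, add_mul, one_mul, ev_e_comm _ _ _ _ hsre, ev_e_comm _ _ _ _ hse,
    ev_e_comm _ _ _ _ hre, ev_e_comm _ _ _ _ hrse, ha, hc, hd, h01]
  simp

/-- words that reduce to `l(g X)` -/
theorem word_lo {s r : M →ₗ[k] M} (hs : s * s = 0) (hr : r * r = 0) {E W : k[X]} {n : ℕ} (hf : Fit s r E W n)
    {x : Matrix.SpecialLinearGroup (Fin 2) k[X] × LinearMap.GeneralLinearGroup k M} {a b c d : k[X]}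
    (hx : Wd s r x a b c d) {g : k[X]} (hg : redm (II s r E) x.1 = loR (Ideal.Quotient.mk (II s r E) (g * X))) :
    (x.2 : M →ₗ[k] M) * ev s r E = ev s r E + ev s r g * ev s r E * r := by
  obtain ⟨x1, x2, x3, x4, x5⟩ := hx
  have h00 : Ideal.Quotient.mk (II s r E) (1 + a * X) = Ideal.Quotient.mk (II s r E) 1 := by
    rw [← x1, ← redm_apply, hg, loR_00, map_one]
  have h01 : Ideal.Quotient.mk (II s r E) b = Ideal.Quotient.mk (II s r E) 0 := by
    rw [← x2, ← redm_apply, hg, loR_01, map_zero]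
  have h10 : Ideal.Quotient.mk (II s r E) (c * X) = Ideal.Quotient.mk (II s r E) (g * X) := by
    rw [← x3, ← redm_apply, hg, loR_10]
  have h11 : Ideal.Quotient.mk (II s r E) (1 + d * X) = Ideal.Quotient.mk (II s r E) 1 := by
    rw [← x4, ← redm_apply, hg, loR_11, map_one]
  rw [mk_eq] at h00 h01 h10 h11
  have ha : ev s r a * ev s r E = 0 := hf.cancelX (by
    rw [map_add, add_mul, add_eq_left] at h00; exact h00)
  have hd : ev s r d * ev s r E = 0 := hf.cancelX (by
    rw [map_add, add_mul, add_eq_left] at h11; exact h11)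
  have hc : ev s r c * ev s r E = ev s r g * ev s r E := by
    rw [← sub_eq_zero, ← sub_mul, ← map_sub]
    apply hf.cancelX
    rw [sub_mul, map_sub, sub_mul, h10, sub_self]
  rw [map_zero, zero_mul] at h01
  have hse := s_ev (r := r) hs E
  have hre := r_ev (s := s) hr E
  have hsre : s * r * ev s r E = ev s r E * (s * r) := by rw [mul_assoc, hre, ← mul_assoc, hse, mul_assoc]
  have hrse : r * s * ev s r E = ev s r E * (r * s) := by rw [mul_assoc, hse, ← mul_assoc, hre, mul_assoc]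
  rw [x5, add_mul, add_mul, add_mul, add_mul, one_mul, ev_e_comm _ _ _ _ hsre, ev_e_comm _ _ _ _ hse,
    ev_e_comm _ _ _ _ hre, ev_e_comm _ _ _ _ hrse, ha, hc, hd, h01]
  simp

/-- lifts of diagonal matrices -/
theorem diag_lift {s r : M →ₗ[k] M} (hs : s * s = 0) (hr : r * r = 0) {E : k[X]}
    (h1 : ∀ y : k[X] ⧸ II s r E, ∃ x ∈ TT s r hs hr, redm (II s r E) x.1 = upR y)
    (h2 : ∀ y : k[X] ⧸ II s r E, ∃ x ∈ TT s r hs hr, redm (II s r E) x.1 = loR y) {y w : k[X] ⧸ II s r E}
    (hyw : y * w = 1) : ∃ h ∈ TT s r hs hr,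
      (redm (II s r E) h.1 : Matrix (Fin 2) (Fin 2) (k[X] ⧸ II s r E)) 0 0 = y ∧
      (redm (II s r E) h.1 : Matrix (Fin 2) (Fin 2) (k[X] ⧸ II s r E)) 0 1 = 0 ∧
      (redm (II s r E) h.1 : Matrix (Fin 2) (Fin 2) (k[X] ⧸ II s r E)) 1 0 = 0 ∧
      (redm (II s r E) h.1 : Matrix (Fin 2) (Fin 2) (k[X] ⧸ II s r E)) 1 1 = w := by
  obtain ⟨x1, hx1, e1⟩ := h1 y
  obtain ⟨x2, hx2, e2⟩ := h2 (-w)
  obtain ⟨x3, hx3, e3⟩ := h1 (-1)
  obtain ⟨x4, hx4, e4⟩ := h2 1
  refine ⟨(x1 * x2 * x1) * (x3 * x4 * x3), Subgroup.mul_mem _ (Subgroup.mul_mem _ (Subgroup.mul_mem _ hx1 hx2) hx1)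
    (Subgroup.mul_mem _ (Subgroup.mul_mem _ hx3 hx4) hx3), ?_⟩
  simp only [Prod.fst_mul, map_mul, e1, e2, e3, e4]
  refine ⟨?_, ?_, ?_, ?_⟩ <;> simp only [slR_mul, loR_00, loR_01, loR_10, loR_11, upR_00, upR_01, upR_10, upR_11]
  · linear_combination -y * hyw
  · linear_combination hyw
  · linear_combination -hyw
  · ring

theorem core2 {G : Subgroup (LinearMap.GeneralLinearGroup k M)} (hk2 : ringChar k ≠ 2) (hk3 : Nat.card k ≠ 3)
    {s r : M →ₗ[k] M} (hs : RV G s) (hr : RV G r) {E W : k[X]} {n : ℕ} (hf : Fit s r E W n)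
    (h1 : ∀ y : k[X] ⧸ II s r E, ∃ x ∈ TT s r hs.1 hr.1, redm (II s r E) x.1 = upR y)
    (h2 : ∀ y : k[X] ⧸ II s r E, ∃ x ∈ TT s r hs.1 hr.1, redm (II s r E) x.1 = loR y) (f : k[X]) :
    RV G (ev s r f * ev s r E * s) ∧ RV G (ev s r f * ev s r E * r) := by
  obtain ⟨c, hc0, hc1⟩ := exists_sq_ne_one hk2 hk3
  have hcc : algebraMap k (k[X] ⧸ II s r E) c * algebraMap k (k[X] ⧸ II s r E) c⁻¹ = 1 := by
    rw [← map_mul, mul_inv_cancel₀ hc0, map_one]
  obtain ⟨h, hh, d00, d01, d10, d11⟩ := diag_lift hs.1 hr.1 h1 h2 hcc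
  obtain ⟨ha, hb, hc, hd, hW⟩ := TT_Wd hs.1 hr.1 hh
  have hW' := hW
  obtain ⟨x1, x2, x3, x4, x5⟩ := hW'
  have ee := hf.ee
  have hse := s_ev (r := r) hs.1 E
  have hre := r_ev (s := s) hr.1 E
  have f00 : ev s r (1 + ha * X) * ev s r E = c • ev s r E := by
    have : Ideal.Quotient.mk (II s r E) (1 + ha * X) = Ideal.Quotient.mk (II s r E) (C c) := by
      rw [← x1, ← redm_apply, d00]; rfl
    rw [mk_eq, ev_C, smul_mul_assoc, one_mul] at this
    exact this
  have f11 : ev s r (1 + hd * X) * ev s r E = c⁻¹ • ev s r E := by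
    have : Ideal.Quotient.mk (II s r E) (1 + hd * X) = Ideal.Quotient.mk (II s r E) (C c⁻¹) := by
      rw [← x4, ← redm_apply, d11]; rfl
    rw [mk_eq, ev_C, smul_mul_assoc, one_mul] at this
    exact this
  have f01 : ev s r hb * ev s r E = 0 := by
    have : Ideal.Quotient.mk (II s r E) hb = Ideal.Quotient.mk (II s r E) 0 := by
      rw [← x2, ← redm_apply, d01, map_zero]
    rw [mk_eq, map_zero, zero_mul] at this
    exact this
  have f10 : ev s r hc * ev s r E = 0 := by
    apply hf.cancelX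
    have : Ideal.Quotient.mk (II s r E) (hc * X) = Ideal.Quotient.mk (II s r E) 0 := by
      rw [← x3, ← redm_apply, d10, map_zero]
    rw [mk_eq, map_zero, zero_mul] at this
    exact this
  -- `h` commutes with polynomials in `z`
  have hcomm : ∀ p : k[X], cj h.2 (ev s r p) = ev s r p := by
    intro p
    have h3 : (h.2 : M →ₗ[k] M) * ev s r p = ev s r p * (h.2 : M →ₗ[k] M) := by
      rw [x5]
      have f : ∀ q : k[X], ev s r q * ev s r p = ev s r p * ev s r q := fun q => ev_comm s r q p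
      have g1 := s_ev (r := r) hs.1 p
      have g2 := r_ev (s := s) hr.1 p
      simp only [add_mul, mul_add, one_mul, mul_one]
      rw [mul_assoc, mul_assoc s r, g2, ← mul_assoc s _ r, g1, mul_assoc, ← mul_assoc (ev s r ha) (ev s r p), f,
        mul_assoc (ev s r p),
        mul_assoc (ev s r hb), g1, ← mul_assoc (ev s r hb), f, mul_assoc (ev s r p), mul_assoc (ev s r hc), g2,
        ← mul_assoc (ev s r hc), f, mul_assoc (ev s r p), mul_assoc (ev s r hd), mul_assoc r s, g1, ← mul_assoc r _ s, g2,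
        mul_assoc _ r s, ← mul_assoc (ev s r hd) (ev s r p), f, mul_assoc (ev s r p)]
    unfold cj
    rw [h3, mul_assoc, val_mul_inv', mul_one]
  have cs : cj h.2 s * ev s r E = (c ^ 2) • (ev s r E * s) := by
    rw [Wd_cj_s hs.1 hr.1 hW]
    have hsre : s * r * ev s r E = ev s r E * (s * r) := by rw [mul_assoc, hre, ← mul_assoc, hse, mul_assoc]
    have hrse : r * s * ev s r E = ev s r E * (r * s) := by rw [mul_assoc, hse, ← mul_assoc, hre, mul_assoc]
    have e1 : (r * s - s * r) * ev s r E = ev s r E * (r * s - s * r) := by rw [sub_mul, mul_sub, hsre, hrse]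
    rw [sub_mul, add_mul, ev_e_comm _ _ _ _ hse, ev_e_comm _ _ _ _ e1, ev_e_comm _ _ _ _ hre]
    have e2 : ev s r ((1 + ha * X) ^ 2) * ev s r E = (c ^ 2) • ev s r E := by
      rw [pow_two, map_mul, mul_assoc, f00, mul_smul_comm, f00, smul_smul, pow_two]
    have e3 : ev s r ((1 + ha * X) * hc) * ev s r E = 0 := by rw [map_mul, mul_assoc, f10, mul_zero]
    have e4 : ev s r (hc ^ 2 * X) * ev s r E = 0 := by
      have : hc ^ 2 * X = (hc * X) * hc := by ring
      rw [this, map_mul, mul_assoc, f10, mul_zero]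
    rw [e2, e3, e4, zero_mul, zero_mul, smul_mul_assoc]; simp
  have cr : cj h.2 r * ev s r E = (c⁻¹ ^ 2) • (ev s r E * r) := by
    rw [Wd_cj_r hs.1 hr.1 hW]
    have hsre : s * r * ev s r E = ev s r E * (s * r) := by rw [mul_assoc, hre, ← mul_assoc, hse, mul_assoc]
    have hrse : r * s * ev s r E = ev s r E * (r * s) := by rw [mul_assoc, hse, ← mul_assoc, hre, mul_assoc]
    have e1 : (s * r - r * s) * ev s r E = ev s r E * (s * r - r * s) := by rw [sub_mul, mul_sub, hsre, hrse]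
    rw [sub_mul, add_mul, ev_e_comm _ _ _ _ hre, ev_e_comm _ _ _ _ e1, ev_e_comm _ _ _ _ hse]
    have e2 : ev s r ((1 + hd * X) ^ 2) * ev s r E = (c⁻¹ ^ 2) • ev s r E := by
      rw [pow_two, map_mul, mul_assoc, f11, mul_smul_comm, f11, smul_smul, pow_two]
    have e3 : ev s r ((1 + hd * X) * hb) * ev s r E = 0 := by rw [map_mul, mul_assoc, f01, mul_zero]
    have e4 : ev s r (hb ^ 2 * X) * ev s r E = 0 := by
      have : hb ^ 2 * X = (hb * X) * hb := by ring
      rw [this, map_mul, mul_assoc, f01, mul_zero]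
    rw [e2, e3, e4, zero_mul, zero_mul, smul_mul_assoc]; simp
  have hl : c ^ 2 - 1 ≠ 0 := sub_ne_zero.2 hc1
  have hl' : c⁻¹ ^ 2 - 1 ≠ 0 := by
    rw [sub_ne_zero, inv_pow]
    intro h3
    exact hc1 (inv_eq_one.1 h3)
  -- squares vanish
  have sq_s : ∀ g : k[X], (ev s r g * ev s r E * s) * (ev s r g * ev s r E * s) = 0 := by
    intro g
    have : (ev s r g * ev s r E * s) * (ev s r g * ev s r E * s) = ev s r g * ev s r E * (s * (ev s r g * ev s r E)) * s := by
      noncomm_ring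
    rw [this, ← map_mul, s_ev hs.1, mul_assoc _ _ s, mul_assoc _ s s, hs.1, mul_zero, mul_zero]
  have sq_r : ∀ g : k[X], (ev s r g * ev s r E * r) * (ev s r g * ev s r E * r) = 0 := by
    intro g
    have : (ev s r g * ev s r E * r) * (ev s r g * ev s r E * r) = ev s r g * ev s r E * (r * (ev s r g * ev s r E)) * r := by
      noncomm_ring
    rw [this, ← map_mul, r_ev hr.1, mul_assoc _ _ r, mul_assoc _ r r, hr.1, mul_zero, mul_zero]
  constructor
  · refine ⟨sq_s f, fun κ => ?_⟩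
    set g : k[X] := C (κ * ((c ^ 2 - 1) ^ (2 * n))⁻¹) * f with hg
    have hgy : ev s r g * ev s r E * s = (κ * ((c ^ 2 - 1) ^ (2 * n))⁻¹) • (ev s r f * ev s r E * s) := by
      rw [hg, map_mul, ev_C, smul_mul_assoc, one_mul, smul_mul_assoc, smul_mul_assoc]
    obtain ⟨w, hw, hwg⟩ := h1 (Ideal.Quotient.mk _ g)
    obtain ⟨a', b', c', d', hW'⟩ := TT_Wd hs.1 hr.1 hw
    have e1 := word_up hs.1 hr.1 hf hW' hwg
    have e2 : cj h.2 (ev s r g * ev s r E * s) = (1 + (c ^ 2 - 1)) • (ev s r g * ev s r E * s) := by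
      rw [cj_mul, cj_mul, hcomm, hcomm, mul_assoc, mul_assoc]
      have e3 : ev s r E * cj h.2 s = (c ^ 2) • (ev s r E * s) := by
        rw [← cs]
        have : cj h.2 (ev s r E * s) = cj h.2 (s * ev s r E) := by rw [hse]
        rw [cj_mul, cj_mul, hcomm] at this
        exact this
      rw [e3, mul_smul_comm]; congr 1; ring
    obtain ⟨g', hg', hg''⟩ := kill hs hr hf hh hw (sq_s g)
      (by rw [mul_assoc, hse]; simp only [mul_assoc]; rw [← mul_assoc (ev s r E) (ev s r E), ee])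
      (by rw [← mul_assoc, ← mul_assoc, ev_comm s r E g, mul_assoc (ev s r g), ee]) e1 e2
    refine ⟨g', hg', ?_⟩
    rw [hg'', hgy, smul_smul]
    congr 2
    field_simp
  · refine ⟨sq_r f, fun κ => ?_⟩
    set g : k[X] := C (κ * ((c⁻¹ ^ 2 - 1) ^ (2 * n))⁻¹) * f with hg
    have hgy : ev s r g * ev s r E * r = (κ * ((c⁻¹ ^ 2 - 1) ^ (2 * n))⁻¹) • (ev s r f * ev s r E * r) := by
      rw [hg, map_mul, ev_C, smul_mul_assoc, one_mul, smul_mul_assoc, smul_mul_assoc]
    obtain ⟨w, hw, hwg⟩ := h2 (Ideal.Quotient.mk _ (g * X))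
    obtain ⟨a', b', c', d', hW'⟩ := TT_Wd hs.1 hr.1 hw
    have e1 := word_lo hs.1 hr.1 hf hW' hwg
    have e2 : cj h.2 (ev s r g * ev s r E * r) = (1 + (c⁻¹ ^ 2 - 1)) • (ev s r g * ev s r E * r) := by
      rw [cj_mul, cj_mul, hcomm, hcomm, mul_assoc, mul_assoc]
      have e3 : ev s r E * cj h.2 r = (c⁻¹ ^ 2) • (ev s r E * r) := by
        rw [← cr]
        have : cj h.2 (ev s r E * r) = cj h.2 (r * ev s r E) := by rw [hre]
        rw [cj_mul, cj_mul, hcomm] at this
        exact this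
      rw [e3, mul_smul_comm]; congr 1; ring
    obtain ⟨g', hg', hg''⟩ := kill hs hr hf hh hw (sq_r g)
      (by rw [mul_assoc, hre]; simp only [mul_assoc]; rw [← mul_assoc (ev s r E) (ev s r E), ee])
      (by rw [← mul_assoc, ← mul_assoc, ev_comm s r E g, mul_assoc (ev s r g), ee]) e1 e2
    refine ⟨g', hg', ?_⟩
    rw [hg'', hgy, smul_smul]
    congr 2
    have := pow_ne_zero (2 * n) hl'
    field_simp

end Cfsg.Agent.H731
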