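/-
Theorem T2 for quadratic pairs (helper731).
-/
import Cfsg.Agent.H731.QuadCore2

set_option autoImplicit false
open Cfsg Polynomial

namespace Cfsg.Agent.H731

variable {k : Type*} [Field k] {M : Type*} [AddCommGroup M] [Module k M]

/-- the rank of an endomorphism -/
noncomputable def rk (y : M →ₗ[k] M) : ℕ := Module.finrank k (LinearMap.range y)

theorem range_mul_le (x y : M →ₗ[k] M) : LinearMap.range (x * y) ≤ LinearMap.range x := by
  rintro _ ⟨v, rfl⟩
  exact ⟨y v, rfl⟩

theorem rk_mul_le_left [FiniteDimensional k M] (x y : M →ₗ[k] M) : rk (x * y) ≤ rk x :=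
  Submodule.finrank_mono (range_mul_le x y)

theorem finrank_map_add_inf [FiniteDimensional k M] (x : M →ₗ[k] M) (N : Submodule k M) :
    Module.finrank k (N.map x) + Module.finrank k (N ⊓ LinearMap.ker x : Submodule k M) = Module.finrank k N := by
  have h := LinearMap.finrank_range_add_finrank_ker (x.domRestrict N)
  have h1 : LinearMap.range (x.domRestrict N) = N.map x := by
    rw [LinearMap.range_domRestrict]
  have h2 : Module.finrank k (LinearMap.ker (x.domRestrict N)) = Module.finrank k (N ⊓ LinearMap.ker x : Submodule k M) := by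
    have h3 : (LinearMap.ker (x.domRestrict N)).map N.subtype = N ⊓ LinearMap.ker x := by
      ext v
      constructor
      · rintro ⟨⟨w, hw⟩, hw2, rfl⟩
        exact ⟨hw, hw2⟩
      · rintro ⟨hv, hv2⟩
        exact ⟨⟨v, hv⟩, hv2, rfl⟩
    rw [← h3]
    exact (Submodule.equivMapOfInjective N.subtype (Submodule.injective_subtype N) _).finrank_eq
  rw [h1, h2] at h
  exact h

theorem range_mul (x y : M →ₗ[k] M) : LinearMap.range (x * y) = (LinearMap.range y).map x := by
  rw [Module.End.mul_eq_comp, LinearMap.range_comp]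

theorem rk_mul_le_right [FiniteDimensional k M] (x y : M →ₗ[k] M) : rk (x * y) ≤ rk y := by
  unfold rk
  rw [range_mul]
  have := finrank_map_add_inf x (LinearMap.range y)
  omega

theorem rk_add_le [FiniteDimensional k M] (x y : M →ₗ[k] M) : rk (x + y) ≤ rk x + rk y := by
  unfold rk
  refine (Submodule.finrank_mono ?_).trans (Submodule.finrank_add_le_finrank_add_finrank _ _)
  rintro _ ⟨v, rfl⟩
  rw [LinearMap.add_apply]
  exact Submodule.add_mem_sup ⟨v, rfl⟩ ⟨v, rfl⟩

theorem rk_neg (x : M →ₗ[k] M) : rk (-x) = rk x := by unfold rk; rw [LinearMap.range_neg]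

theorem rk_sub_le [FiniteDimensional k M] (x y : M →ₗ[k] M) : rk (x - y) ≤ rk x + rk y := by
  rw [sub_eq_add_neg, ← rk_neg y]; exact rk_add_le x (-y)

theorem rk_split_ge [FiniteDimensional k M] {e x : M →ₗ[k] M} (hee : e * e = e) (hex : x * e = e * x) :
    rk (e * x) + rk ((1 - e) * x) ≤ rk x := by
  have h1 : LinearMap.range (e * x) ⊓ LinearMap.range ((1 - e) * x) = ⊥ := by
    rw [eq_bot_iff]
    rintro v ⟨⟨a, ha⟩, ⟨b, hb⟩⟩
    rw [Submodule.mem_bot]
    have e1 : e v = v := by
      rw [← ha, ← Module.End.mul_apply, ← mul_assoc, hee]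
    have e2 : e v = 0 := by
      rw [← hb, ← Module.End.mul_apply, ← mul_assoc, mul_sub, hee, mul_one, sub_self, zero_mul, LinearMap.zero_apply]
    rw [← e1, e2]
  have h2 := Submodule.finrank_sup_add_finrank_inf_eq (LinearMap.range (e * x)) (LinearMap.range ((1 - e) * x))
  rw [h1, finrank_bot, add_zero] at h2
  unfold rk
  rw [← h2]
  apply Submodule.finrank_mono
  apply sup_le
  · rw [← hex]; exact range_mul_le x e
  · have : (1 - e) * x = x * (1 - e) := by rw [sub_mul, mul_sub, one_mul, mul_one, hex]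
    rw [this]; exact range_mul_le x _

theorem rk_split_le [FiniteDimensional k M] (e x : M →ₗ[k] M) :
    rk x ≤ rk (e * x) + rk ((1 - e) * x) := by
  have : x = e * x + (1 - e) * x := by rw [sub_mul, one_mul]; abel
  conv_lhs => rw [this]
  exact rk_add_le _ _

theorem rk_pair [FiniteDimensional k M] {a b : M →ₗ[k] M} (h : b * a * b = 0) : rk (a * b) + rk (b * a) ≤ rk a := by
  have h1 := finrank_map_add_inf b (LinearMap.range a)
  unfold rk
  rw [range_mul b a, ← h1, add_comm]
  apply Nat.add_le_add_left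
  apply Submodule.finrank_mono
  rintro _ ⟨v, rfl⟩
  refine ⟨range_mul_le a b ⟨v, rfl⟩, ?_⟩
  change b ((a * b) v) = 0
  rw [← Module.End.mul_apply, ← mul_assoc, h, LinearMap.zero_apply]

/-- units in the residue ring from injectivity -/
theorem unit_of_inj [FiniteDimensional k M] {s r : M →ₗ[k] M} (hs : s * s = 0) (hr : r * r = 0) {E W : k[X]} {n : ℕ}
    (hf : Fit s r E W n) {p : k[X]} (hp : ∀ v, ev s r p ((ev s r E * s) v) = 0 → (ev s r E * s) v = 0) :
    IsUnit (Ideal.Quotient.mk (II s r E) p) := by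
  haveI : FiniteDimensional k (k[X] ⧸ II s r E) := finite_quot s r E (le_refl _)
  haveI : IsArtinianRing (k[X] ⧸ II s r E) := isArtinian_of_tower k inferInstance
  apply IsArtinianRing.isUnit_of_mem_nonZeroDivisors
  rw [mem_nonZeroDivisors_iff_right]
  intro y hy
  obtain ⟨q, rfl⟩ := Ideal.Quotient.mk_surjective y
  rw [← map_mul, Ideal.Quotient.eq_zero_iff_mem, mem_II, map_mul] at hy
  rw [Ideal.Quotient.eq_zero_iff_mem, mem_II]
  apply hf.of_s hs hr
  ext v
  rw [LinearMap.zero_apply]
  have e1 : ev s r q * ev s r E * s = ev s r E * s * ev s r q := by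
    rw [mul_assoc _ s, s_ev hs, ← mul_assoc, ev_comm s r E]
  rw [e1, Module.End.mul_apply]
  apply hp
  have e2 : ev s r p ((ev s r E * s) (ev s r q v)) = (ev s r q * ev s r p * ev s r E * s) v := by
    rw [← Module.End.mul_apply, ← Module.End.mul_apply]
    congr 1
    rw [mul_assoc, ← e1, ← mul_assoc, ← mul_assoc, ev_comm s r p q]
  rw [e2, hy, zero_mul, LinearMap.zero_apply]

/-- the pair `(s, s^x)` -/
theorem pair_facts {s r : M →ₗ[k] M} (hs : s * s = 0) (hr : r * r = 0)
    {x : Matrix.SpecialLinearGroup (Fin 2) k[X] × LinearMap.GeneralLinearGroup k M} {a b c d : k[X]}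
    (hx : Wd s r x a b c d) :
    zz s (cj x.2 s) = -(ev s r (c * X) * ev s r (c * X)) ∧
    s * cj x.2 s - cj x.2 s * s = (2 : k) • (ev s r ((1 + a * X) * (c * X)) * s) - ev s r (c ^ 2 * X) * (s * r - r * s) := by
  have h0 := Wd_cj_s hs hr hx
  set P := (1 + a * X) with hP
  have zs : s * r * s = zz s r * s := by
    unfold zz; rw [add_mul, mul_assoc r s s, hs, mul_zero, add_zero]
  have e1 : s * cj x.2 s = ev s r (P * (c * X)) * s - ev s r (c ^ 2 * X) * (s * r) := by
    rw [h0, mul_sub, mul_add, ← mul_assoc, s_ev hs, mul_assoc _ s s, hs, mul_zero, zero_add, ← mul_assoc s, s_ev hs,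
      mul_assoc _ s, mul_sub s, ← mul_assoc s s r, hs, zero_mul, sub_zero, ← mul_assoc s (ev s r (c ^ 2 * X)), s_ev hs,
      mul_assoc _ s r, ← mul_assoc s r s, zs, ← mul_assoc, ← ev_X, ← map_mul]
    congr 3; ring
  have e2 : cj x.2 s * s = -(ev s r (P * (c * X)) * s) - ev s r (c ^ 2 * X) * (r * s) := by
    rw [h0, sub_mul, add_mul, mul_assoc _ s s, hs, mul_zero, zero_add, mul_assoc _ _ s, sub_mul (r * s), mul_assoc r s s,
      hs, mul_zero, zero_sub, zs, mul_neg, ← mul_assoc, ← ev_X, ← map_mul, mul_assoc _ r s]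
    congr 4; ring
  constructor
  · have e3 : zz s (cj x.2 s) = -(ev s r (c ^ 2 * X) * zz s r) := by
      conv_lhs => unfold zz
      rw [e1, e2]
      unfold zz
      noncomm_ring
    rw [e3, ← ev_X, ← map_mul, ← map_mul]
    congr 2; ring
  · rw [e1, e2, two_smul]; noncomm_ring

theorem Wd_comm {s r : M →ₗ[k] M} (hs : s * s = 0) (hr : r * r = 0)
    {x : Matrix.SpecialLinearGroup (Fin 2) k[X] × LinearMap.GeneralLinearGroup k M} {a b c d : k[X]}
    (hx : Wd s r x a b c d) (p : k[X]) : (x.2 : M →ₗ[k] M) * ev s r p = ev s r p * (x.2 : M →ₗ[k] M) := by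
  rw [hx.2.2.2.2]
  have f : ∀ q : k[X], ev s r q * ev s r p = ev s r p * ev s r q := fun q => ev_comm s r q p
  have g1 := s_ev (r := r) hs p
  have g2 := r_ev (s := s) hr p
  simp only [add_mul, mul_add, one_mul, mul_one]
  rw [mul_assoc, mul_assoc s r, g2, ← mul_assoc s _ r, g1, mul_assoc, ← mul_assoc (ev s r a) (ev s r p), f,
    mul_assoc (ev s r p),
    mul_assoc (ev s r b), g1, ← mul_assoc (ev s r b), f, mul_assoc (ev s r p), mul_assoc (ev s r c), g2,
    ← mul_assoc (ev s r c), f, mul_assoc (ev s r p), mul_assoc (ev s r d), mul_assoc r s, g1, ← mul_assoc r _ s, g2,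
    mul_assoc _ r s, ← mul_assoc (ev s r d) (ev s r p), f, mul_assoc (ev s r p)]

theorem cj_ev_comm {s r : M →ₗ[k] M} (hs : s * s = 0) (hr : r * r = 0)
    {x : Matrix.SpecialLinearGroup (Fin 2) k[X] × LinearMap.GeneralLinearGroup k M} {a b c d : k[X]}
    (hx : Wd s r x a b c d) {p : k[X]} {y : M →ₗ[k] M} (hy : y * ev s r p = ev s r p * y) :
    cj x.2 y * ev s r p = ev s r p * cj x.2 y := by
  have h1 := Wd_comm hs hr hx p
  have h2 := Wd_comm hs hr (Wd_inv hs hr hx) p
  rw [Prod.snd_inv] at h2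
  unfold cj
  rw [mul_assoc, h2, ← mul_assoc, mul_assoc _ y, hy, ← mul_assoc, h1]; noncomm_ring

theorem hq_step [FiniteDimensional k M] {G : Subgroup (LinearMap.GeneralLinearGroup k M)} (hk2 : ringChar k ≠ 2)
    {s r : M →ₗ[k] M} (hs : MRV G s) (hr : RV G r) {E W : k[X]} {n : ℕ} (hf : Fit s r E W n)
    (hne : ev s r E ≠ 0)
    (hIH : ∀ s' : M →ₗ[k] M, RV G s' → ¬ IsNilpotent (zz s s') → rk (zz s s' * s) < rk (zz s r * s) →
      ∃ P : k[X], ev s s' P * zz s s' * s = s)
    {x : Matrix.SpecialLinearGroup (Fin 2) k[X] × LinearMap.GeneralLinearGroup k M} (hx : x ∈ TT s r hs.1.1 hr.1) :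
    Ideal.Quotient.mk (II s r E) ((x.1 : Matrix (Fin 2) (Fin 2) k[X]) 1 0) = 0 ∨
      IsUnit (Ideal.Quotient.mk (II s r E) ((x.1 : Matrix (Fin 2) (Fin 2) k[X]) 1 0)) := by
  have hss := hs.1.1
  have hrr := hr.1
  have h2 : (2 : k) ≠ 0 := Ring.two_ne_zero hk2
  obtain ⟨a, b, c, d, hW⟩ := TT_Wd hss hrr hx
  obtain ⟨f1, f2⟩ := pair_facts hss hrr hW
  have hsx : MRV G (cj x.2 s) := MRV_cj hs (TT_mem hs.1 hr hx)
  set s' := cj x.2 s with hs'
  obtain ⟨x1, x2, x3, x4, x5⟩ := hW
  rw [x3]
  have ee := hf.ee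
  have hse := s_ev (r := r) hss E
  by_cases hnil : IsNilpotent (zz s s')
  · left
    -- the nilpotent case
    have hn1 : IsNilpotent (s * s') := nilpotent_mul_of_nilpotent_z hss hsx.1.1 hnil
    have hn2 : IsNilpotent (s' * s) := nilpotent_mul_of_nilpotent_z hsx.1.1 hss (by
      have : s' * s + s * s' = zz s s' := by unfold zz; abel
      rw [this]; exact hnil)
    have t1 : s * s' * s = 0 := T1' hk2 hs hsx.1 hn1
    have t2 : s' * s * s' = 0 := T1' hk2 hsx hs.1 hn2
    have q2s : ev s r (c * X) * ev s r (c * X) * s = 0 := by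
      have h3 : zz s s' * s = 0 := by
        unfold zz; rw [add_mul, t1, mul_assoc, hss, mul_zero, add_zero]
      rw [f1, neg_mul, neg_eq_zero] at h3
      exact h3
    set l := s * s' - s' * s with hl
    have hlRV : RV G l := by
      have g1 : RV G (cj (tv s hss) s') := RV_cj hsx.1 (RV_mem_one hs.1)
      rw [cj_tv, t1, sub_zero, ← hl] at g1
      have ls' : l * s' = 0 := by rw [hl, sub_mul, mul_assoc, hsx.1.1, mul_zero, t2, sub_zero]
      have s'l : s' * l = 0 := by rw [hl, mul_sub, ← mul_assoc, ← mul_assoc, t2, hsx.1.1, zero_mul, sub_zero]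
      have g2 := RV_sub g1 hsx.1 (by rw [add_mul, ls', hsx.1.1, add_zero]) (by rw [mul_add, s'l, hsx.1.1, add_zero])
      rwa [add_sub_cancel_left] at g2
    -- on the invertible part
    have hcr : ev s r (c ^ 2 * X) * (s * r - r * s) * ev s r E = 0 := by
      have k1 : ev s r E * ev s r (c ^ 2 * X) * s = 0 := by
        have : ev s r E * ev s r (c ^ 2 * X) * s = ev s r W * ev s r E * (ev s r (c * X) * ev s r (c * X) * s) := by
          have e1 : ev s r E * ev s r (c ^ 2 * X) = ev s r W * ev s r E * (ev s r (c * X) * ev s r (c * X)) := by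
            have e2 : ev s r E * ev s r (c ^ 2 * X) = (ev s r (W * X) * ev s r E) * ev s r (c ^ 2 * X) := by rw [hf.W_X]
            rw [e2]; simp only [← map_mul]; congr 1; ring
          rw [e1]; noncomm_ring
        rw [this, q2s, mul_zero]
      have hsre : s * r * ev s r E = ev s r E * (s * r) := by
        rw [mul_assoc, r_ev hrr, ← mul_assoc, hse, mul_assoc]
      have hrse : r * s * ev s r E = ev s r E * (r * s) := by
        rw [mul_assoc, hse, ← mul_assoc, r_ev hrr, mul_assoc]
      have e1 : ev s r (c ^ 2 * X) * (s * r - r * s) * ev s r E =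
          (ev s r E * ev s r (c ^ 2 * X) * s) * r - r * (ev s r E * ev s r (c ^ 2 * X) * s) := by
        have e2 : r * (ev s r E * ev s r (c ^ 2 * X) * s) = ev s r E * ev s r (c ^ 2 * X) * (r * s) := by
          rw [← map_mul, ← mul_assoc, r_ev hrr, mul_assoc]
        rw [e2, mul_assoc, sub_mul, hsre, hrse, ← mul_sub, ← mul_assoc, ev_comm s r _ E]
        noncomm_ring
      rw [e1, k1]; simp
    have hel : ev s r E * l = ev s r (c * X) * (ev s r E * s) * ((2 : k) • ev s r (1 + a * X)) := by
      have e0 : ev s r E * l = l * ev s r E := by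
        have c1 : ev s r E * s' = s' * ev s r E := by
          rw [hs']; exact (cj_ev_comm hss hrr ⟨x1, x2, x3, x4, x5⟩ (s_ev hss E)).symm
        rw [hl, mul_sub, sub_mul, ← mul_assoc, ← mul_assoc, ← hse, mul_assoc, c1, mul_assoc, mul_assoc s' s, hse,
          mul_assoc]
      rw [e0, f2, sub_mul, hcr, sub_zero, smul_mul_assoc, mul_assoc _ s, hse, mul_smul_comm]
      congr 1
      have e5 : ev s r (c * X) * (ev s r E * s) * ev s r (1 + a * X) =
          (ev s r (c * X) * ev s r E * ev s r (1 + a * X)) * s := by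
        rw [mul_assoc, mul_assoc _ s, s_ev hss]; noncomm_ring
      have e6 : ev s r ((1 + a * X) * (c * X)) * (ev s r E * s) = (ev s r ((1 + a * X) * (c * X)) * ev s r E) * s := by
        rw [mul_assoc]
      rw [e5, e6, ← map_mul, ← map_mul, ← map_mul]
      congr 2; ring
    have hesne : ev s r E * s ≠ 0 := by
      intro h0
      apply hne
      have := hf.of_s hss hrr (p := 1) (by rw [map_one, one_mul]; exact h0)
      rwa [map_one, one_mul] at this
    have hrk1 : rk (ev s r E * l) < rk (ev s r E * s) := by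
      rw [hel]
      refine (rk_mul_le_left _ _).trans_lt ?_
      by_contra hcon
      push Not at hcon
      have hc1 : ev s r (c * X) * (ev s r E * s) = (ev s r E * s) * ev s r (c * X) := by
        rw [mul_assoc _ s, s_ev hss, ← mul_assoc, ← mul_assoc, ev_comm s r (c * X)]
      have hle : LinearMap.range (ev s r (c * X) * (ev s r E * s)) ≤ LinearMap.range (ev s r E * s) := by
        rw [hc1]; exact range_mul_le _ _
      have heq := Submodule.eq_of_le_of_finrank_le hle hcon
      apply hesne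
      ext v
      rw [LinearMap.zero_apply]
      have m1 : (ev s r E * s) v ∈ LinearMap.range (ev s r (c * X) * (ev s r E * s)) := by rw [heq]; exact ⟨v, rfl⟩
      obtain ⟨w, hw⟩ := m1
      have m2 : (ev s r E * s) w ∈ LinearMap.range (ev s r (c * X) * (ev s r E * s)) := by rw [heq]; exact ⟨w, rfl⟩
      obtain ⟨u, hu⟩ := m2
      rw [← hw, Module.End.mul_apply, ← hu, ← Module.End.mul_apply, ← mul_assoc]
      have e7 : ev s r (c * X) * ev s r (c * X) * (ev s r E * s) = ev s r E * (ev s r (c * X) * ev s r (c * X) * s) := by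
        rw [← mul_assoc, ← mul_assoc (ev s r E), ← map_mul, ← map_mul, ← map_mul]; congr 2; ring
      rw [e7, q2s, mul_zero, LinearMap.zero_apply]
    have hrk2 : rk ((1 - ev s r E) * l) ≤ rk ((1 - ev s r E) * s) := by
      have c1 : s' * (1 - ev s r E) = (1 - ev s r E) * s' := by
        have c1 : ev s r E * s' = s' * ev s r E := by
          rw [hs']; exact (cj_ev_comm hss hrr ⟨x1, x2, x3, x4, x5⟩ (s_ev hss E)).symm
        rw [mul_sub, sub_mul, c1, mul_one, one_mul]
      have e1 : (1 - ev s r E) * l = ((1 - ev s r E) * s) * s' - s' * ((1 - ev s r E) * s) := by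
        rw [← mul_assoc s', c1, hl]; noncomm_ring
      rw [e1]
      refine (rk_sub_le _ _).trans (rk_pair ?_)
      rw [← mul_assoc s', c1, mul_assoc, mul_assoc, ← mul_assoc s' s, t2, mul_zero]
    have hl0 : l = 0 := by
      apply MRV_eq_zero_of_lt hs hlRV
      have h3 := rk_split_le (ev s r E) l
      have h4 := rk_split_ge (x := s) ee hse
      change rk l < rk s
      omega
    rw [hl0, mul_zero] at hel
    have h5 : ev s r (c * X) * (ev s r E * s) * ev s r (1 + a * X) = 0 := by
      rw [mul_smul_comm] at hel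
      exact (smul_eq_zero.1 hel.symm).resolve_left h2
    have hdet := slR_det x.1
    rw [x1, x2, x3, x4] at hdet
    rw [Ideal.Quotient.eq_zero_iff_mem, mem_II]
    apply hf.of_s hss hrr
    have h6 : ev s r (c * X) * ev s r E * s =
        (ev s r (c * X) * (ev s r E * s) * ev s r (1 + a * X)) * ev s r (1 + d * X) -
          ev s r b * ev s r E * (ev s r (c * X) * ev s r (c * X) * s) := by
      have e5 : ev s r (c * X) * (ev s r E * s) * ev s r (1 + a * X) * ev s r (1 + d * X) =
          (ev s r (c * X) * ev s r E * ev s r ((1 + a * X) * (1 + d * X))) * s := by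
        rw [mul_assoc _ (ev s r (1 + a * X)), ← map_mul, mul_assoc, mul_assoc _ s, s_ev hss]; noncomm_ring
      have e6 : ev s r b * ev s r E * (ev s r (c * X) * ev s r (c * X) * s) =
          (ev s r b * ev s r E * (ev s r (c * X) * ev s r (c * X))) * s := by noncomm_ring
      rw [e5, e6, ← sub_mul]
      simp only [← map_mul, ← map_sub]
      congr 2
      linear_combination (-(c * X * E)) * hdet
    rw [h6, h5, q2s]; simp
  · right
    have hqinj : (∀ v, ev s r (c * X) ((ev s r E * s) v) = 0 → (ev s r E * s) v = 0) := by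
      rcases lt_or_ge (rk (zz s s' * s)) (rk (zz s r * s)) with hlt | hge
      · obtain ⟨P, hP⟩ := hIH s' hsx.1 hnil hlt
        intro v hv
        rw [← hse] at hv ⊢
        have e1 : (s * ev s r E) v = (ev s s' P * zz s s' * s) (ev s r E v) := by rw [hP]; rfl
        rw [e1]
        have e2 : (ev s s' P * zz s s' * s) (ev s r E v) = ev s s' P (-(ev s r (c * X) (ev s r (c * X) ((s * ev s r E) v)))) := by
          rw [f1]; rfl
        rw [e2, hv, map_zero, neg_zero, map_zero]
      · -- equal ranks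
        have e1 : zz s s' * s = (-(ev s r (c ^ 2 * X))) * (zz s r * s) := by
          rw [f1, ← ev_X, neg_mul, neg_mul, ← mul_assoc, ← map_mul, ← map_mul]; congr 3; ring
        have h3 := finrank_map_add_inf (-(ev s r (c ^ 2 * X))) (LinearMap.range (zz s r * s))
        rw [← range_mul, ← e1] at h3
        have h4 : Module.finrank k (LinearMap.range (zz s r * s) ⊓ LinearMap.ker (-(ev s r (c ^ 2 * X))) : Submodule k M) = 0 := by
          unfold rk at hge; omega
        rw [Submodule.finrank_eq_zero] at h4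
        intro v hv
        have e2 : (ev s r E * s) v ∈ (LinearMap.range (zz s r * s) ⊓ LinearMap.ker (-(ev s r (c ^ 2 * X))) : Submodule k M) := by
          constructor
          · refine ⟨(ev s r W * ev s r E) v, ?_⟩
            rw [← Module.End.mul_apply]
            congr 1
            rw [mul_assoc, ← map_mul, s_ev hss, ← mul_assoc, ← ev_X, ← map_mul]
            have : X * (W * E) = W * X * E := by ring
            rw [this, map_mul, hf.W_X]
          · change (-(ev s r (c ^ 2 * X))) ((ev s r E * s) v) = 0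
            rw [LinearMap.neg_apply, neg_eq_zero]
            have : c ^ 2 * X = c * (c * X) := by ring
            rw [this, map_mul, Module.End.mul_apply, hv, map_zero]
        rw [h4] at e2
        exact (Submodule.mem_bot k).1 e2
    exact unit_of_inj hss hrr hf hqinj

theorem finish [FiniteDimensional k M] {G : Subgroup (LinearMap.GeneralLinearGroup k M)} (hk2 : ringChar k ≠ 2)
    (hk3 : Nat.card k ≠ 3) {s r : M →ₗ[k] M} (hs : MRV G s) (hr : RV G r) {E W : k[X]} {n : ℕ} (hf : Fit s r E W n)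
    (hne : ev s r E ≠ 0)
    (hq : ∀ x ∈ TT s r hs.1.1 hr.1, Ideal.Quotient.mk (II s r E) ((x.1 : Matrix (Fin 2) (Fin 2) k[X]) 1 0) = 0 ∨
      IsUnit (Ideal.Quotient.mk (II s r E) ((x.1 : Matrix (Fin 2) (Fin 2) k[X]) 1 0))) :
    ev s r E * s = s := by
  obtain ⟨-, g2, g3⟩ := core1 hk2 hk3 hs.1.1 hr.1 hf hne hq
  have h1 := (core2 hk2 hk3 hs.1 hr hf g2 g3 1).1
  rw [map_one, one_mul] at h1
  have hesne : ev s r E * s ≠ 0 := by
    intro h0
    apply hne
    have := hf.of_s hs.1.1 hr.1 (p := 1) (by rw [map_one, one_mul]; exact h0)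
    rwa [map_one, one_mul] at this
  have hrk := hs.2.2 _ h1 hesne
  have hle : LinearMap.range (ev s r E * s) ≤ LinearMap.range s := by
    rw [← s_ev hs.1.1]; exact range_mul_le _ _
  have heq := Submodule.eq_of_le_of_finrank_le hle hrk
  ext v
  have hv : s v ∈ LinearMap.range (ev s r E * s) := by rw [heq]; exact ⟨v, rfl⟩
  obtain ⟨w, hw⟩ := hv
  rw [Module.End.mul_apply, ← hw, ← Module.End.mul_apply, ← mul_assoc, hf.ee]

theorem hq_all [FiniteDimensional k M] {G : Subgroup (LinearMap.GeneralLinearGroup k M)} (hk2 : ringChar k ≠ 2)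
    (hk3 : Nat.card k ≠ 3) (m : ℕ) : ∀ {s r : M →ₗ[k] M} (hs : MRV G s) (hr : RV G r) {E W : k[X]} {n : ℕ},
    Fit s r E W n → ¬ IsNilpotent (zz s r) → rk (zz s r * s) = m → 
    (∀ x ∈ TT s r hs.1.1 hr.1, Ideal.Quotient.mk (II s r E) ((x.1 : Matrix (Fin 2) (Fin 2) k[X]) 1 0) = 0 ∨
      IsUnit (Ideal.Quotient.mk (II s r E) ((x.1 : Matrix (Fin 2) (Fin 2) k[X]) 1 0))) := by
  induction m using Nat.strong_induction_on with
  | _ m ih =>
    intro s r hs hr E W n hf hn hm x hx
    refine hq_step hk2 hs hr hf (hf.ne_zero hn) ?_ hx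
    intro s' hs' hn' hlt
    obtain ⟨E', W', n', hf'⟩ := exists_fit s s'
    have h1 := ih _ (by rw [← hm]; exact hlt) hs hs' hf' hn' rfl
    have h2 := finish hk2 hk3 hs hs' hf' (hf'.ne_zero hn') h1
    refine ⟨W', ?_⟩
    have h3 : ev s s' W' * zz s s' * s = ev s s' W' * zz s s' * (ev s s' E' * s) := by rw [h2]
    rw [h3, ← mul_assoc, hf'.inv, h2]

/-- the summary of all facts about a pair `(s, r)` with `z` not nilpotent -/
theorem T2_full [FiniteDimensional k M] {G : Subgroup (LinearMap.GeneralLinearGroup k M)} (hk2 : ringChar k ≠ 2)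
    (hk3 : Nat.card k ≠ 3) {s r : M →ₗ[k] M} (hs : MRV G s) (hr : RV G r) (hn : ¬ IsNilpotent (zz s r)) :
    ∃ (E W : k[X]) (n : ℕ), Fit s r E W n ∧ ev s r E * s = s ∧ (II s r E).IsMaximal ∧
      (∀ y : k[X] ⧸ II s r E, ∃ x ∈ TT s r hs.1.1 hr.1, redm (II s r E) x.1 = upR y) ∧
      (∀ y : k[X] ⧸ II s r E, ∃ x ∈ TT s r hs.1.1 hr.1, redm (II s r E) x.1 = loR y) ∧
      ∀ f : k[X], RV G (ev s r f * ev s r E * s) ∧ RV G (ev s r f * ev s r E * r) := by
  obtain ⟨E, W, n, hf⟩ := exists_fit s r
  have hne := hf.ne_zero hn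
  have hq := hq_all hk2 hk3 _ hs hr hf hn rfl
  obtain ⟨g1, g2, g3⟩ := core1 hk2 hk3 hs.1.1 hr.1 hf hne hq
  exact ⟨E, W, n, hf, finish hk2 hk3 hs hr hf hne hq, g1, g2, g3, core2 hk2 hk3 hs.1 hr hf g2 g3⟩

theorem T2' [FiniteDimensional k M] {G : Subgroup (LinearMap.GeneralLinearGroup k M)} (hk2 : ringChar k ≠ 2)
    (hk3 : Nat.card k ≠ 3) {s r : M →ₗ[k] M} (hs : MRV G s) (hr : RV G r) (hn : ¬ IsNilpotent (s * r)) :
    ∃ r₁ r₀ t : M →ₗ[k] M, r = r₁ + r₀ ∧ r₁ * r₀ = 0 ∧ r₀ * r₁ = 0 ∧ s * r₀ = 0 ∧ r₀ * s = 0 ∧ MRV G r₁ ∧ RV G r₀ ∧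
      MRV G t ∧ LinearMap.ker t = LinearMap.ker r₁ ∧ LinearMap.range t = LinearMap.range r₁ ∧
      s * t * s = s ∧ t * s * t = t := by
  have hss := hs.1.1
  have hrr := hr.1
  have hn' : ¬ IsNilpotent (zz s r) := fun h => hn (nilpotent_mul_of_nilpotent_z hss hrr h)
  obtain ⟨E, W, n, hf, hes, -, -, -, hRV⟩ := T2_full hk2 hk3 hs hr hn'
  set e := ev s r E with he
  have ee : e * e = e := hf.ee
  have hse : s * e = e * s := s_ev hss E
  have hre : r * e = e * r := r_ev hrr E
  have zs : s * r * s = zz s r * s := by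
    unfold zz; rw [add_mul, mul_assoc r s s, hss, mul_zero, add_zero]
  have zr : r * s * r = zz s r * r := by
    unfold zz; rw [add_mul, mul_assoc s r r, hrr, mul_zero, zero_add]
  have sW := s_ev (r := r) hss W
  have rW := r_ev (s := s) hrr W
  have We : ev s r W * e = e * ev s r W := ev_comm s r W E
  have inv := hf.inv
  rw [← he] at inv
  have h1 : RV G (e * r) := by
    have := (hRV 1).2
    rwa [map_one, one_mul] at this
  have ht : RV G (ev s r W * e * r) := (hRV W).2
  have sts : s * (ev s r W * e * r) * s = s := by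
    calc s * (ev s r W * e * r) * s = (s * ev s r W) * e * (r * s) := by noncomm_ring
      _ = ev s r W * (s * e) * (r * s) := by rw [sW]; noncomm_ring
      _ = ev s r W * e * (s * r * s) := by rw [hse]; noncomm_ring
      _ = (ev s r W * (e * zz s r)) * s := by rw [zs]; noncomm_ring
      _ = e * s := by
        have : e * zz s r = zz s r * e := by rw [he, ← ev_X, ev_comm]
        rw [this, ← mul_assoc, inv]
      _ = s := hes
  have tst : (ev s r W * e * r) * s * (ev s r W * e * r) = ev s r W * e * r := by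
    calc (ev s r W * e * r) * s * (ev s r W * e * r) = ev s r W * e * (r * ((s * ev s r W) * e * r)) := by noncomm_ring
      _ = ev s r W * e * ((r * ev s r W) * (s * e) * r) := by rw [sW]; noncomm_ring
      _ = ev s r W * e * (ev s r W * (r * e) * s * r) := by rw [rW, hse]; noncomm_ring
      _ = ev s r W * e * (ev s r W * e * (r * s * r)) := by rw [hre]; noncomm_ring
      _ = ev s r W * e * ((ev s r W * (e * zz s r)) * r) := by rw [zr]; noncomm_ring
      _ = ev s r W * e * (e * r) := by
        have : e * zz s r = zz s r * e := by rw [he, ← ev_X, ev_comm]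
        rw [this, ← mul_assoc (ev s r W) (zz s r), inv]
      _ = ev s r W * e * r := by rw [← mul_assoc, mul_assoc _ e e, ee]
  set t := ev s r W * e * r with htdef
  have htr : t = ev s r W * (e * r) := by rw [htdef, mul_assoc]
  have hrt : e * r = zz s r * t := by
    rw [htr, ← mul_assoc, ← mul_assoc]
    have : zz s r * ev s r W * e = e := by
      rw [← ev_X, ev_comm s r X W, ev_X]; exact inv
    rw [this]
  have htr2 : t = (e * r) * ev s r W := by
    rw [htdef, mul_assoc e, rW, ← mul_assoc, We]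
  have hrt2 : e * r = t * zz s r := by
    rw [htdef, mul_assoc _ r, r_zz hrr, ← mul_assoc]
    have : ev s r W * e * zz s r = e := by
      rw [mul_assoc, he, ← ev_X, ev_comm s r E X, ← mul_assoc, ev_X]; exact inv
    rw [this]
  have hker : LinearMap.ker t = LinearMap.ker (e * r) := by
    apply le_antisymm
    · intro v hv
      rw [LinearMap.mem_ker] at hv ⊢
      rw [hrt, Module.End.mul_apply, hv, map_zero]
    · intro v hv
      rw [LinearMap.mem_ker] at hv ⊢
      rw [htr, Module.End.mul_apply, hv, map_zero]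
  have hrange : LinearMap.range t = LinearMap.range (e * r) := by
    apply le_antisymm
    · rw [htr2]; exact range_mul_le _ _
    · rw [hrt2]; exact range_mul_le _ _
  have htne : t ≠ 0 := by
    intro h0
    apply hs.2.1
    rw [← sts, h0]; simp
  have htrk : rk t ≤ rk s := by
    rw [← tst, mul_assoc]
    exact (rk_mul_le_right _ _).trans (rk_mul_le_left _ _)
  have htM : MRV G t := MRV_of_le hs ht htne htrk
  have herne : e * r ≠ 0 := by
    intro h0
    apply htne
    rw [htr, h0, mul_zero]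
  have herM : MRV G (e * r) := MRV_of_le hs h1 herne (by rw [← hrange]; exact htrk)
  have r1r : (e * r) * r = 0 := by rw [mul_assoc, hrr, mul_zero]
  have rr1 : r * (e * r) = 0 := by rw [← mul_assoc, hre, mul_assoc, hrr, mul_zero]
  refine ⟨e * r, r - e * r, t, by abel, ?_, ?_, ?_, ?_, herM, RV_sub hr h1 rr1 r1r, htM, hker, hrange, sts, tst⟩
  · rw [mul_sub, r1r, h1.1, sub_zero]
  · rw [sub_mul, rr1, h1.1, sub_zero]
  · rw [mul_sub, ← mul_assoc, hse, hes, sub_self]
  · rw [sub_mul, ← hre, mul_assoc, hes, sub_self]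

/-- **T2** in terms of `H740.QIn`, `H740.IsMin`. -/
theorem T2 [FiniteDimensional k M] {G : Subgroup (LinearMap.GeneralLinearGroup k M)} (hk2 : ringChar k ≠ 2)
    (hk3 : Nat.card k ≠ 3) {s r : M →ₗ[k] M} (hs : H740.IsMin G s) (hr : H740.QIn G r) (hn : ¬ IsNilpotent (s * r)) :
    ∃ r₁ r₀ t : M →ₗ[k] M, r = r₁ + r₀ ∧ r₁ * r₀ = 0 ∧ r₀ * r₁ = 0 ∧ s * r₀ = 0 ∧ r₀ * s = 0 ∧ H740.IsMin G r₁ ∧
      H740.QIn G r₀ ∧ H740.IsMin G t ∧ LinearMap.ker t = LinearMap.ker r₁ ∧ LinearMap.range t = LinearMap.range r₁ ∧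
      s * t * s = s ∧ t * s * t = t :=
  T2' hk2 hk3 hs hr hn

end Cfsg.Agent.H731
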